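import Mathlib
import Cfsg.Agent.H91.CoprimeAb
import Cfsg.Agent.Transfer.NPC
import Cfsg.Agent.Transfer.Residual
import Cfsg.Agent.H11.Act

/-!
Homocyclic Sylow `2`-subgroups of rank two.
-/

set_option autoImplicit false

namespace Cfsg.Agent.H51

open scoped commutatorElement

theorem zmod_two_smul {m : ℕ} (hm : 1 ≤ m) (a : ZMod (2 ^ m)) (h : a + a = 0) :
    a = 0 ∨ a = ((2 ^ (m - 1) : ℕ) : ZMod (2 ^ m)) := by
  obtain ⟨k, rfl⟩ : ∃ k, m = k + 1 := ⟨m - 1, by omega⟩
  have hne : NeZero (2 ^ (k + 1)) := ⟨pow_ne_zero _ two_ne_zero⟩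
  have h1 : ((a.val + a.val : ℕ) : ZMod (2 ^ (k + 1))) = 0 := by
    push_cast
    rw [ZMod.natCast_zmod_val]
    exact h
  rw [ZMod.natCast_eq_zero_iff] at h1
  have h2 := ZMod.val_lt a
  have hps : 2 ^ (k + 1) = 2 ^ k * 2 := pow_succ 2 k
  have h3 : 2 ^ k ∣ a.val := by
    have : 2 ^ k * 2 ∣ a.val * 2 := by rw [mul_two a.val, ← hps]; exact h1
    exact Nat.dvd_of_mul_dvd_mul_right (by norm_num) this
  obtain ⟨j, hj⟩ := h3
  have h4 : j < 2 := by
    have h5 : 2 ^ k * j < 2 ^ k * 2 := by rw [← hj, ← hps]; exact h2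
    exact lt_of_mul_lt_mul_left h5 (Nat.zero_le _)
  have ha : a = ((a.val : ℕ) : ZMod (2 ^ (k + 1))) := (ZMod.natCast_zmod_val a).symm
  have hj' : j = 0 ∨ j = 1 := by omega
  rcases hj' with rfl | rfl
  · left; rw [ha, hj]; simp
  · right; rw [ha, hj]; simp

theorem zmod_half_ne_zero {m : ℕ} (hm : 1 ≤ m) : ((2 ^ (m - 1) : ℕ) : ZMod (2 ^ m)) ≠ 0 := by
  intro h
  rw [ZMod.natCast_eq_zero_iff] at h
  have h1 := (Nat.pow_dvd_pow_iff_le_right (x := 2) (by norm_num)).mp h
  omega

theorem zmod_half_add {m : ℕ} (hm : 1 ≤ m) :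
    ((2 ^ (m - 1) : ℕ) : ZMod (2 ^ m)) + ((2 ^ (m - 1) : ℕ) : ZMod (2 ^ m)) = 0 := by
  rw [← Nat.cast_add, ← mul_two, ← pow_succ, Nat.sub_add_cancel hm]
  exact_mod_cast ZMod.natCast_self (2 ^ m)

section

variable {G : Type*} [Group G] {P : Subgroup G} {m : ℕ}

/-- the three involutions of a homocyclic group of rank two -/
theorem exists_three (hm : 1 ≤ m) (e : P ≃* Multiplicative (ZMod (2 ^ m) × ZMod (2 ^ m))) :
    ∃ α β : G, α ∈ P ∧ β ∈ P ∧ α ≠ 1 ∧ β ≠ 1 ∧ α ≠ β ∧ α ^ 2 = 1 ∧ β ^ 2 = 1 ∧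
      ∀ z ∈ P, z ^ 2 = 1 → z = 1 ∨ z = α ∨ z = β ∨ z = α * β := by
  set h : ZMod (2 ^ m) := ((2 ^ (m - 1) : ℕ) : ZMod (2 ^ m)) with hh
  have h0 := zmod_half_ne_zero hm
  have ha := zmod_half_add hm
  let a : P := e.symm (Multiplicative.ofAdd (h, 0))
  let b : P := e.symm (Multiplicative.ofAdd (0, h))
  have hea : e a = Multiplicative.ofAdd (h, 0) := e.apply_symm_apply _
  have heb : e b = Multiplicative.ofAdd (0, h) := e.apply_symm_apply _
  have key : ∀ z : P, z ^ 2 = 1 → z = 1 ∨ z = a ∨ z = b ∨ z = a * b := by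
    intro z hz
    have h1 : (e z) ^ 2 = 1 := by rw [← map_pow, hz, map_one]
    have h2 : (Multiplicative.toAdd (e z)) + Multiplicative.toAdd (e z) = 0 := by
      rw [sq] at h1
      exact h1
    have h3 := zmod_two_smul hm _ (congrArg Prod.fst h2)
    have h4 := zmod_two_smul hm _ (congrArg Prod.snd h2)
    have hz' : z = e.symm (e z) := (e.symm_apply_apply z).symm
    have h5 : ∀ w, e z = w → z = e.symm w := by intro w hw; rw [← hw]; exact hz'
    rcases h3 with h3 | h3 <;> rcases h4 with h4 | h4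
    · left
      rw [h5 1 (Multiplicative.toAdd.injective (Prod.ext h3 h4)), map_one]
    · right; right; left
      exact h5 _ (Multiplicative.toAdd.injective (Prod.ext h3 h4))
    · right; left
      exact h5 _ (Multiplicative.toAdd.injective (Prod.ext h3 h4))
    · right; right; right
      apply e.injective
      rw [map_mul, hea, heb]
      apply Multiplicative.toAdd.injective
      refine Prod.ext ?_ ?_
      · rw [toAdd_mul]
        change _ = h + 0
        rw [add_zero]; exact h3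
      · rw [toAdd_mul]
        change _ = 0 + h
        rw [zero_add]; exact h4
  have hsq : ∀ w : Multiplicative (ZMod (2 ^ m) × ZMod (2 ^ m)), Multiplicative.toAdd w + Multiplicative.toAdd w = 0 →
      w ^ 2 = 1 := by
    intro w hw
    rw [sq]
    exact hw
  refine ⟨a, b, a.2, b.2, ?_, ?_, ?_, ?_, ?_, ?_⟩
  · intro h1
    have h2 : a = 1 := Subtype.ext h1
    have h3 : e a = 1 := by rw [h2, map_one]
    rw [hea] at h3
    exact h0 (congrArg Prod.fst (show (h, (0 : ZMod (2 ^ m))) = 0 from h3))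
  · intro h1
    have h2 : b = 1 := Subtype.ext h1
    have h3 : e b = 1 := by rw [h2, map_one]
    rw [heb] at h3
    exact h0 (congrArg Prod.snd (show ((0 : ZMod (2 ^ m)), h) = 0 from h3))
  · intro h1
    have h2 : a = b := Subtype.ext h1
    have h3 : e a = e b := by rw [h2]
    rw [hea, heb] at h3
    exact h0 (congrArg Prod.fst (show (h, (0 : ZMod (2 ^ m))) = (0, h) from h3))
  · have h1 : a ^ 2 = 1 := by
      apply e.injective
      rw [map_pow, hea, map_one]
      apply hsq
      exact Prod.ext ha (add_zero 0)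
    exact congrArg Subtype.val h1
  · have h1 : b ^ 2 = 1 := by
      apply e.injective
      rw [map_pow, heb, map_one]
      apply hsq
      exact Prod.ext (add_zero 0) ha
    exact congrArg Subtype.val h1
  · intro z hz hz2
    rcases key ⟨z, hz⟩ (Subtype.ext hz2) with h1 | h1 | h1 | h1
    · left; exact congrArg Subtype.val h1
    · right; left; exact congrArg Subtype.val h1
    · right; right; left; exact congrArg Subtype.val h1
    · right; right; right; exact congrArg Subtype.val h1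

end

section

variable {G : Type*} [Group G] [Finite G]

/-- an element normalizing an abelian Sylow `2`-subgroup and centralizing its involutions
centralizes it -/
theorem mem_centralizer_of_involutions (P : Sylow 2 G) (hPc : ∀ a ∈ (P : Subgroup G), ∀ b ∈ (P : Subgroup G), a * b = b * a)
    {g : G} (hg : g ∈ Subgroup.normalizer ((P : Subgroup G) : Set G))
    (hinv : ∀ z ∈ (P : Subgroup G), z ^ 2 = 1 → g * z = z * g) :
    g ∈ Subgroup.centralizer ((P : Subgroup G) : Set G) := by
  obtain ⟨a, b, hab, ⟨k, hk⟩, hb⟩ := Cfsg.Agent.Transfer.exists_pow_decomp 2 g (orderOf_pos g).ne'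
  rw [hab]
  apply Subgroup.mul_mem
  · -- the 2-part lies in P
    have h1 : g ^ a ∈ (P : Subgroup G) := by
      have h2 : IsPGroup 2 ((P : Subgroup G) ⊔ Subgroup.zpowers (g ^ a) : Subgroup G) := by
        apply IsPGroup.to_sup_of_normal_left' P.isPGroup'
        · exact IsPGroup.of_card (n := k) (by rw [Nat.card_zpowers, hk])
        · rw [Subgroup.zpowers_le]
          exact Subgroup.pow_mem _ hg a
      have h3 := P.3 h2 le_sup_left
      rw [← h3]
      exact Subgroup.mem_sup_right (Subgroup.mem_zpowers _)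
    rw [Subgroup.mem_centralizer_iff]
    intro z hz
    exact hPc z hz _ h1
  · set y := g ^ b with hy
    have hyN : y ∈ Subgroup.normalizer ((P : Subgroup G) : Set G) := Subgroup.pow_mem _ hg b
    have hyinv : ∀ z ∈ (P : Subgroup G), z ^ 2 = 1 → y * z = z * y := fun z hz hz2 =>
      ((show Commute g z from hinv z hz hz2).pow_left b).eq
    have hPcm : IsMulCommutative (P : Subgroup G) := (Cfsg.Agent.H11.comm_iff _).mpr hPc
    have hcop : (Nat.card (Subgroup.zpowers y)).Coprime (Nat.card (P : Subgroup G)) := by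
      obtain ⟨j, hj⟩ := IsPGroup.iff_card.mp P.isPGroup'
      rw [Nat.card_zpowers]
      rw [hj]
      exact hb.pow_right j
    obtain ⟨h4, -⟩ := Cfsg.Agent.H91.abelian_decomp (G := G) (A := Subgroup.zpowers y) (V := (P : Subgroup G))
      (by rw [Subgroup.zpowers_le]; exact hyN) hcop
    have hle : ⁅(P : Subgroup G), Subgroup.zpowers y⁆ ≤ (P : Subgroup G) :=
      Subgroup.le_normalizer_iff_commutator_le_left.mp (by rw [Subgroup.zpowers_le]; exact hyN)
    have hbot : ⁅(P : Subgroup G), Subgroup.zpowers y⁆ = ⊥ := by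
      by_contra hne
      have hpg : IsPGroup 2 (⁅(P : Subgroup G), Subgroup.zpowers y⁆ : Subgroup G) := P.isPGroup'.to_le hle
      have hnt : Nontrivial (⁅(P : Subgroup G), Subgroup.zpowers y⁆ : Subgroup G) :=
        (Subgroup.nontrivial_iff_ne_bot _).mpr hne
      obtain ⟨n, hn0, hn⟩ := (hpg.nontrivial_iff_card).mp hnt
      obtain ⟨z, hz⟩ := exists_prime_orderOf_dvd_card' (G := (⁅(P : Subgroup G), Subgroup.zpowers y⁆ : Subgroup G)) 2
        (by rw [hn]; exact dvd_pow_self 2 hn0.ne')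
      have hz2 : (z : G) ^ 2 = 1 := by
        have := pow_orderOf_eq_one z
        rw [hz] at this
        exact congrArg Subtype.val this
      have hzP : (z : G) ∈ (P : Subgroup G) := hle z.2
      have h5 : (z : G) ∈ (⊥ : Subgroup G) := by
        rw [← h4]
        refine ⟨⟨hzP, ?_⟩, z.2⟩
        change (z : G) ∈ Subgroup.centralizer (Subgroup.zpowers y : Set G)
        rw [Subgroup.mem_centralizer_iff]
        intro w hw
        obtain ⟨i, rfl⟩ := Subgroup.mem_zpowers_iff.mp hw
        exact ((show Commute y (z : G) from hyinv z hzP hz2).zpow_left i).eq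
      have h6 : z = 1 := Subtype.ext (Subgroup.mem_bot.mp h5)
      rw [h6, orderOf_one] at hz
      omega
    rw [Subgroup.mem_centralizer_iff]
    intro z hz
    have h7 : ⁅z, y⁆ ∈ ⁅(P : Subgroup G), Subgroup.zpowers y⁆ :=
      Subgroup.commutator_mem_commutator hz (Subgroup.mem_zpowers y)
    rw [hbot, Subgroup.mem_bot, commutatorElement_eq_one_iff_mul_comm] at h7
    exact h7

/-- the involutions relative to a given one -/
theorem exists_other {P : Subgroup G} {m : ℕ} (hm : 1 ≤ m) (e : P ≃* Multiplicative (ZMod (2 ^ m) × ZMod (2 ^ m)))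
    {z : G} (hz : z ∈ P) (hz1 : z ≠ 1) (hz2 : z ^ 2 = 1) :
    ∃ w ∈ P, w ^ 2 = 1 ∧ w ≠ 1 ∧ w ≠ z ∧ ∀ u ∈ P, u ^ 2 = 1 → u = 1 ∨ u = z ∨ u = w ∨ u = z * w := by
  have hPc : ∀ a ∈ P, ∀ b ∈ P, a * b = b * a := by
    intro a ha b hb
    have h1 : (⟨a, ha⟩ * ⟨b, hb⟩ : P) = ⟨b, hb⟩ * ⟨a, ha⟩ := by
      apply e.injective
      rw [map_mul, map_mul, mul_comm]
    exact congrArg Subtype.val h1
  obtain ⟨α, β, hα, hβ, hα1, hβ1, hαβ, hα2, hβ2, hall⟩ := exists_three hm e
  rcases hall z hz hz2 with h | h | h | h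
  · exact absurd h hz1
  · refine ⟨β, hβ, hβ2, hβ1, fun h' => hαβ (by rw [h', h]), fun u hu hu2 => ?_⟩
    rw [h]; exact hall u hu hu2
  · refine ⟨α, hα, hα2, hα1, fun h' => hαβ (by rw [h', h]), fun u hu hu2 => ?_⟩
    rw [h]
    rcases hall u hu hu2 with h' | h' | h' | h'
    · exact Or.inl h'
    · exact Or.inr (Or.inr (Or.inl h'))
    · exact Or.inr (Or.inl h')
    · right; right; right; rw [h', hPc α hα β hβ]
  · refine ⟨α, hα, hα2, hα1, fun h' => hβ1 ?_, fun u hu hu2 => ?_⟩
    · rw [h] at h'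
      exact mul_eq_left.mp h'.symm
    rw [h]
    have e1 : α * β * α = β := by
      rw [hPc α hα β hβ, mul_assoc, ← sq, hα2, mul_one]
    rcases hall u hu hu2 with h' | h' | h' | h'
    · exact Or.inl h'
    · exact Or.inr (Or.inr (Or.inl h'))
    · right; right; right; rw [e1, h']
    · exact Or.inr (Or.inl h')

theorem comm_of_equiv {P : Subgroup G} {m : ℕ} (e : P ≃* Multiplicative (ZMod (2 ^ m) × ZMod (2 ^ m))) :
    ∀ a ∈ P, ∀ b ∈ P, a * b = b * a := by
  intro a ha b hb
  have h1 : (⟨a, ha⟩ * ⟨b, hb⟩ : P) = ⟨b, hb⟩ * ⟨a, ha⟩ := by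
    apply e.injective
    rw [map_mul, map_mul, mul_comm]
  exact congrArg Subtype.val h1

/-- `|N(P) : C(P)|` is odd when `P` is an abelian Sylow subgroup -/
theorem odd_relIndex (P : Sylow 2 G) (hPc : ∀ a ∈ (P : Subgroup G), ∀ b ∈ (P : Subgroup G), a * b = b * a) :
    Odd ((Subgroup.centralizer ((P : Subgroup G) : Set G)).relIndex (Subgroup.normalizer ((P : Subgroup G) : Set G))) := by
  rw [← Nat.not_even_iff_odd, even_iff_two_dvd]
  intro h
  have hPC : (P : Subgroup G) ≤ Subgroup.centralizer ((P : Subgroup G) : Set G) := by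
    intro a ha
    rw [Subgroup.mem_centralizer_iff]
    intro b hb
    exact hPc b hb a ha
  have h1 : (Subgroup.centralizer ((P : Subgroup G) : Set G)).relIndex (Subgroup.normalizer ((P : Subgroup G) : Set G)) ∣
      (P : Subgroup G).index := by
    have h2 := Subgroup.relIndex_mul_relIndex (P : Subgroup G) (Subgroup.centralizer ((P : Subgroup G) : Set G))
      (Subgroup.normalizer ((P : Subgroup G) : Set G)) hPC (Subgroup.centralizer_le_normalizer _)
    have h3 := Subgroup.relIndex_mul_index (H := (P : Subgroup G)) (K := Subgroup.normalizer ((P : Subgroup G) : Set G))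
      Subgroup.le_normalizer
    rw [← h3, ← h2]
    exact Dvd.dvd.mul_right (Dvd.intro_left _ rfl) _
  exact P.not_dvd_index (h.trans h1)

/-- in the homocyclic rank two case the stabilizer of an involution in `N(P)` is `C(P)` -/
theorem mem_centralizer_of_one (P : Sylow 2 G) {m : ℕ} (hm : 1 ≤ m)
    (e : (P : Subgroup G) ≃* Multiplicative (ZMod (2 ^ m) × ZMod (2 ^ m)))
    {g : G} (hg : g ∈ Subgroup.normalizer ((P : Subgroup G) : Set G))
    {z : G} (hz : z ∈ (P : Subgroup G)) (hz1 : z ≠ 1) (hz2 : z ^ 2 = 1) (hgz : g * z = z * g) :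
    g ∈ Subgroup.centralizer ((P : Subgroup G) : Set G) := by
  have hPc := comm_of_equiv e
  obtain ⟨w, hw, hw2, hw1, hwz, hall⟩ := exists_other hm e hz hz1 hz2
  have hgz' : g * z * g⁻¹ = z := by rw [hgz]; group
  have hgw : g * w * g⁻¹ = w ∨ g * w * g⁻¹ = z * w := by
    have h1 : g * w * g⁻¹ ∈ (P : Subgroup G) := (Subgroup.mem_normalizer_iff.mp hg w).mp hw
    have h2 : (g * w * g⁻¹) ^ 2 = 1 := by rw [conj_pow, hw2]; group
    rcases hall _ h1 h2 with h | h | h | h
    · exfalso
      apply hw1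
      have : w = g⁻¹ * (g * w * g⁻¹) * g := by group
      rw [this, h]; group
    · exfalso
      apply hwz
      have : w = g⁻¹ * (g * w * g⁻¹) * g := by group
      rw [this, h]
      have h3 : g⁻¹ * z * g = g⁻¹ * (g * z * g⁻¹) * g := by rw [hgz']
      rw [h3]; group
    · exact Or.inl h
    · exact Or.inr h
  have hg2w : g ^ 2 * w = w * g ^ 2 := by
    have h1 : g * (g * w * g⁻¹) * g⁻¹ = w := by
      rcases hgw with h | h
      · rw [h, h]
      · rw [h]
        have e1 : g * (z * w) * g⁻¹ = (g * z * g⁻¹) * (g * w * g⁻¹) := by group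
        rw [e1, hgz', h, ← mul_assoc, ← sq, hz2, one_mul]
    calc g ^ 2 * w = (g * (g * w * g⁻¹) * g⁻¹) * g ^ 2 := by rw [sq]; group
      _ = w * g ^ 2 := by rw [h1]
  have hg2z : g ^ 2 * z = z * g ^ 2 := ((show Commute g z from hgz).pow_left 2).eq
  have hg2 : g ^ 2 ∈ Subgroup.centralizer ((P : Subgroup G) : Set G) := by
    apply mem_centralizer_of_involutions P hPc (Subgroup.pow_mem _ hg 2)
    intro u hu hu2
    rcases hall u hu hu2 with h | h | h | h
    · rw [h]; simp
    · rw [h]; exact hg2z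
    · rw [h]; exact hg2w
    · rw [h]; exact ((show Commute (g ^ 2) z from hg2z).mul_right hg2w).eq
  -- odd index
  have hodd := odd_relIndex P hPc
  set C := Subgroup.centralizer ((P : Subgroup G) : Set G) with hC
  set N := Subgroup.normalizer ((P : Subgroup G) : Set G) with hN
  have hCn : (C.subgroupOf N).Normal := by
    rw [hC, hN]
    infer_instance
  have h1 : (⟨g, hg⟩ : N) ^ (C.relIndex N) ∈ C.subgroupOf N := Subgroup.pow_index_mem (C.subgroupOf N) ⟨g, hg⟩
  have h2 : g ^ (C.relIndex N) ∈ C := Subgroup.mem_subgroupOf.mp h1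
  obtain ⟨j, hj⟩ := hodd
  rw [hj, pow_succ, pow_mul] at h2
  exact (Subgroup.mul_mem_cancel_left C (Subgroup.pow_mem _ hg2 j)).mp h2

/-- `|N(P) : C(P)|` is one or three -/
theorem relIndex_one_or_three (P : Sylow 2 G) {m : ℕ} (hm : 1 ≤ m)
    (e : (P : Subgroup G) ≃* Multiplicative (ZMod (2 ^ m) × ZMod (2 ^ m))) :
    (Subgroup.centralizer ((P : Subgroup G) : Set G)).relIndex (Subgroup.normalizer ((P : Subgroup G) : Set G)) = 1 ∨
    ((Subgroup.centralizer ((P : Subgroup G) : Set G)).relIndex (Subgroup.normalizer ((P : Subgroup G) : Set G)) = 3 ∧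
      ∀ s ∈ (P : Subgroup G), ∀ t ∈ (P : Subgroup G), s ≠ 1 → s ^ 2 = 1 → t ≠ 1 → t ^ 2 = 1 →
        ∃ g : G, g * s * g⁻¹ = t) := by
  have hPc := comm_of_equiv e
  have hodd := odd_relIndex P hPc
  set C := Subgroup.centralizer ((P : Subgroup G) : Set G) with hC
  set N := Subgroup.normalizer ((P : Subgroup G) : Set G) with hN
  obtain ⟨α, β, hα, hβ, hα1, hβ1, hαβ, hα2, hβ2, hall⟩ := exists_three hm e
  -- the stabilizer of any involution
  have horb : ∀ z ∈ (P : Subgroup G), z ≠ 1 → z ^ 2 = 1 →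
      C.relIndex N = Set.ncard {y | ∃ g ∈ N, g * z * g⁻¹ = y} := by
    intro z hz hz1 hz2
    let _ : MulAction N G := MulAction.compHom G ((ConjAct.toConjAct : G ≃* ConjAct G).toMonoidHom.comp N.subtype)
    have hsm : ∀ (n : N) (x : G), n • x = n * x * (n : G)⁻¹ := fun n x => rfl
    have h1 : MulAction.stabilizer N z = C.subgroupOf N := by
      ext n
      rw [MulAction.mem_stabilizer_iff, hsm, Subgroup.mem_subgroupOf]
      constructor
      · intro h
        apply mem_centralizer_of_one P hm e n.2 hz hz1 hz2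
        calc (n : G) * z = (n * z * (n : G)⁻¹) * n := by group
          _ = z * n := by rw [h]
      · intro h
        have := Subgroup.mem_centralizer_iff.mp h z hz
        rw [← this]; group
    have h2 := MulAction.index_stabilizer (G := N) (x := z)
    rw [h1] at h2
    have h3 : MulAction.orbit N z = {y | ∃ g ∈ N, g * z * g⁻¹ = y} := by
      ext y
      constructor
      · rintro ⟨n, rfl⟩
        exact ⟨n, n.2, rfl⟩
      · rintro ⟨g, hg, rfl⟩
        exact ⟨⟨g, hg⟩, rfl⟩
    rw [h3] at h2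
    exact h2
  have hsub : ∀ z ∈ (P : Subgroup G), z ≠ 1 → z ^ 2 = 1 →
      {y | ∃ g ∈ N, g * z * g⁻¹ = y} ⊆ ({α, β, α * β} : Set G) := by
    rintro z hz hz1 hz2 _ ⟨g, hg, rfl⟩
    have h1 : g * z * g⁻¹ ∈ (P : Subgroup G) := (Subgroup.mem_normalizer_iff.mp hg z).mp hz
    have h2 : (g * z * g⁻¹) ^ 2 = 1 := by rw [conj_pow, hz2]; group
    rcases hall _ h1 h2 with h | h | h | h
    · exfalso
      apply hz1
      have : z = g⁻¹ * (g * z * g⁻¹) * g := by group
      rw [this, h]; group
    · left; exact h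
    · right; left; exact h
    · right; right; exact h
  have hcard3 : ({α, β, α * β} : Set G).ncard ≤ 3 := by
    refine (Set.ncard_insert_le _ _).trans ?_
    have := Set.ncard_insert_le β ({α * β} : Set G)
    rw [Set.ncard_singleton] at this
    omega
  have hle := Set.ncard_le_ncard (hsub α hα hα1 hα2) (Set.toFinite _)
  rw [← horb α hα hα1 hα2] at hle
  have hpos : 0 < C.relIndex N := Nat.pos_of_ne_zero hodd.pos.ne'
  obtain ⟨j, hj⟩ := hodd
  have hcase : C.relIndex N = 1 ∨ C.relIndex N = 3 := by omega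
  rcases hcase with h | h
  · exact Or.inl h
  · right
    refine ⟨h, ?_⟩
    intro s hs t ht hs1 hs2 ht1 ht2
    have h1 := horb s hs hs1 hs2
    rw [h] at h1
    have h2 : {y | ∃ g ∈ N, g * s * g⁻¹ = y} = ({α, β, α * β} : Set G) :=
      Set.eq_of_subset_of_ncard_le (hsub s hs hs1 hs2) (by rw [← h1]; exact hcard3) (Set.toFinite _)
    have h3 : t ∈ ({α, β, α * β} : Set G) := by
      rcases hall t ht ht2 with h | h | h | h
      · exact absurd h ht1
      · left; exact h
      · right; left; exact h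
      · right; right; exact h
    rw [← h2] at h3
    obtain ⟨g, -, hg⟩ := h3
    exact ⟨g, hg⟩

end

end Cfsg.Agent.H51
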