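import Cfsg.Agent.H51.D4Diag2

set_option autoImplicit false
set_option maxRecDepth 100000

/-!
No reflection on a non-toral subgroup of order nine in the triality group: end of the argument.
-/

namespace Cfsg.Agent.H51.D4Diag

open Matrix Cfsg.Lie Cfsg.Agent.Chev Cfsg.Agent.ChevGrp Cfsg.Agent.ChevF Cfsg.Agent.H51.TwoPrime Cfsg.Agent.H51.ChevFus
  Cfsg.Agent.H51.F4W Cfsg.Agent.H51.D4W Cfsg.Agent.H51.G2W

/-- coordinates of the roots -/
lemma vec_tab : ∀ s : Fin 24,
    vec chevD4 s 0 = ![-1, -1, -1, -1, -1, -1, 0, 0, 0, 0, 0, 0, 0, 0, 0, 0, 0, 0, 1, 1, 1, 1, 1, 1] s ∧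
    vec chevD4 s 1 = ![-2, -1, -1, -1, -1, 0, -1, -1, -1, -1, 0, 0, 0, 0, 1, 1, 1, 1, 0, 1, 1, 1, 1, 2] s ∧
    vec chevD4 s 2 = ![-1, -1, -1, 0, 0, 0, -1, -1, 0, 0, -1, 0, 0, 1, 0, 0, 1, 1, 0, 0, 0, 1, 1, 1] s ∧
    vec chevD4 s 3 = ![-1, -1, 0, -1, 0, 0, -1, 0, -1, 0, 0, -1, 1, 0, 0, 1, 0, 1, 0, 0, 1, 0, 1, 1] s := by
  decide +kernel

lemma find6 : ∀ s : Fin 24, vec chevD4 s 0 = 0 → vec chevD4 s 1 = -1 → vec chevD4 s 2 = -1 → vec chevD4 s 3 = -1 → s = 6 := by
  intro s
  obtain ⟨h0, h1, h2, h3⟩ := vec_tab s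
  rw [h0, h1, h2, h3]
  revert s; decide

lemma find18 : ∀ s : Fin 24, vec chevD4 s 0 = 1 → vec chevD4 s 1 = 0 → vec chevD4 s 2 = 0 → vec chevD4 s 3 = 0 → s = 18 := by
  intro s
  obtain ⟨h0, h1, h2, h3⟩ := vec_tab s
  rw [h0, h1, h2, h3]
  revert s; decide

lemma find19 : ∀ s : Fin 24, vec chevD4 s 0 = 1 → vec chevD4 s 1 = 1 → vec chevD4 s 2 = 0 → vec chevD4 s 3 = 0 → s = 19 := by
  intro s
  obtain ⟨h0, h1, h2, h3⟩ := vec_tab s
  rw [h0, h1, h2, h3]
  revert s; decide

/-- coordinates of an image -/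
lemma vec_img {u : Equiv.Perm (Fin chevD4.nroots)} (hu : u ∈ DData.dD4.rp.wsys.W) {x : M4} (hx : wmD u = x.toMat)
    (s : Fin chevD4.nroots) (i : Fin 4) : vec chevD4 (u s) i = x.toMat i 0 * vec chevD4 s 0 + x.toMat i 1 * vec chevD4 s 1 +
      x.toMat i 2 * vec chevD4 s 2 + x.toMat i 3 * vec chevD4 s 3 := by
  have h1 := rv_W DData.dD4 (good_of_mem hD4) hu s
  have h2 : vec chevD4 (u s) i = (wmD u *ᵥ (fun j : Fin 4 => vec chevD4 s j)) i := congrFun h1 i
  rw [h2, hx]
  simp only [Matrix.mulVec, dotProduct, Fin.sum_univ_four]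
  rfl

variable {K : Type*} [Field K]

/-- elements of `N` on root vectors -/
lemma N_eB {n : GL chevD4.Idx K} (hn : n ∈ (chev DData.dD4 (good_of_mem hD4) K).N)
    {u : Equiv.Perm (Fin chevD4.nroots)} (hu : (chev DData.dD4 (good_of_mem hD4) K).Act n u) (s : Fin chevD4.nroots) :
    ∃ c : K, (n : Matrix chevD4.Idx chevD4.Idx K) *ᵥ eB chevD4 K s = c • eB chevD4 K (u s) := by
  obtain ⟨L, k, hk, rfl⟩ := RGrp.exists_nd hn
  have h1 : u = DData.dD4.rp.wsys.wd L := by
    have := ((RGrp.act_nd (R := chev DData.dD4 (good_of_mem hD4) K) L).mul (RGrp.act_H hk)).unique hu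
    rw [mul_one] at this; exact this.symm
  obtain ⟨χ, rfl⟩ := exists_tor hD4 hk
  obtain ⟨c, hc⟩ := nd_eB (K := K) DData.dD4 hD4 L s
  rw [Units.val_mul, ← Matrix.mulVec_mulVec, ChevU.coe_torHom, tD_mulVec_eB χ s.2, Matrix.mulVec_smul, hc, h1, smul_smul]
  exact ⟨_, rfl⟩

lemma vv_zero_iff {x y z : K} (h : vv x y z = 0) : x = 0 ∧ y = 0 ∧ z = 0 := by
  have e : (0 : chevD4.Idx → K) = vv 0 0 0 := by simp [vv]
  rw [e] at h
  exact vv_inj h

/-- the module is preserved and there is a fixed vector -/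
theorem fixed_vec {b : GL chevD4.Idx K} (hb : b ∈ (chev DData.dD4 (good_of_mem hD4) K).N)
    {u : Equiv.Perm (Fin chevD4.nroots)} (hu : (chev DData.dD4 (good_of_mem hD4) K).Act b u) (hb3 : b ^ 3 = 1)
    (h : wmD u = w1.toMat ∨ wmD u = w2.toMat) : Pres b ∧ ∃ x y z : K, ¬ (x = 0 ∧ y = 0 ∧ z = 0) ∧
      (b : Matrix chevD4.Idx chevD4.Idx K) *ᵥ vv x y z = vv x y z := by
  have hb3' : ∀ v : chevD4.Idx → K, (b : Matrix chevD4.Idx chevD4.Idx K) *ᵥ ((b : Matrix chevD4.Idx chevD4.Idx K) *ᵥ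
      ((b : Matrix chevD4.Idx chevD4.Idx K) *ᵥ v)) = v := by
    intro v
    rw [Matrix.mulVec_mulVec, Matrix.mulVec_mulVec, ← Units.val_mul, ← Units.val_mul]
    have : b * b * b = 1 := by rw [← hb3]; simp only [pow_succ, pow_zero, one_mul]
    rw [this]; simp
  obtain ⟨c1, e18⟩ := N_eB hb hu (⟨18, by decide⟩ : Fin chevD4.nroots)
  obtain ⟨c2, e19⟩ := N_eB hb hu (⟨19, by decide⟩ : Fin chevD4.nroots)
  obtain ⟨c3, e6⟩ := N_eB hb hu (⟨6, by decide⟩ : Fin chevD4.nroots)
  have hv : ∀ x y z : K, vv x y z = x • eB chevD4 K 18 + y • eB chevD4 K 19 + z • eB chevD4 K 6 := fun _ _ _ => rfl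
  have t18 := vec_tab 18
  have t19 := vec_tab 19
  have t6 := vec_tab 6
  rcases h with h | h
  · -- 18 → 6 → 19 → 18
    have u18 : u (⟨18, by decide⟩ : Fin chevD4.nroots) = (⟨6, by decide⟩ : Fin chevD4.nroots) := by
      apply find6
      · exact (vec_img hu.mem h _ 0).trans (by decide +kernel)
      · exact (vec_img hu.mem h _ 1).trans (by decide +kernel)
      · exact (vec_img hu.mem h _ 2).trans (by decide +kernel)
      · exact (vec_img hu.mem h _ 3).trans (by decide +kernel)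
    have u6 : u (⟨6, by decide⟩ : Fin chevD4.nroots) = (⟨19, by decide⟩ : Fin chevD4.nroots) := by
      apply find19
      · exact (vec_img hu.mem h _ 0).trans (by decide +kernel)
      · exact (vec_img hu.mem h _ 1).trans (by decide +kernel)
      · exact (vec_img hu.mem h _ 2).trans (by decide +kernel)
      · exact (vec_img hu.mem h _ 3).trans (by decide +kernel)
    have u19 : u (⟨19, by decide⟩ : Fin chevD4.nroots) = (⟨18, by decide⟩ : Fin chevD4.nroots) := by
      apply find18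
      · exact (vec_img hu.mem h _ 0).trans (by decide +kernel)
      · exact (vec_img hu.mem h _ 1).trans (by decide +kernel)
      · exact (vec_img hu.mem h _ 2).trans (by decide +kernel)
      · exact (vec_img hu.mem h _ 3).trans (by decide +kernel)
    rw [u18] at e18
    rw [u19] at e19
    rw [u6] at e6
    simp only at e18 e19 e6
    have key : ∀ x y z : K, (b : Matrix chevD4.Idx chevD4.Idx K) *ᵥ vv x y z = vv (c2 * y) (c3 * z) (c1 * x) := by
      intro x y z
      rw [hv, hv, Matrix.mulVec_add, Matrix.mulVec_add, Matrix.mulVec_smul, Matrix.mulVec_smul, Matrix.mulVec_smul, e18, e19, e6]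
      module
    have h1 := hb3' (vv 1 0 0)
    rw [key, key, key] at h1
    obtain ⟨h2, -, -⟩ := vv_inj h1
    refine ⟨fun x y z => ⟨_, _, _, key x y z⟩, 1, c3 * c1, c1, fun h => one_ne_zero h.1, ?_⟩
    rw [key]
    congr 1
    · rw [← h2]; ring
    · ring
  · -- 18 → 19 → 6 → 18
    have u18 : u (⟨18, by decide⟩ : Fin chevD4.nroots) = (⟨19, by decide⟩ : Fin chevD4.nroots) := by
      apply find19
      · exact (vec_img hu.mem h _ 0).trans (by decide +kernel)
      · exact (vec_img hu.mem h _ 1).trans (by decide +kernel)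
      · exact (vec_img hu.mem h _ 2).trans (by decide +kernel)
      · exact (vec_img hu.mem h _ 3).trans (by decide +kernel)
    have u6 : u (⟨6, by decide⟩ : Fin chevD4.nroots) = (⟨18, by decide⟩ : Fin chevD4.nroots) := by
      apply find18
      · exact (vec_img hu.mem h _ 0).trans (by decide +kernel)
      · exact (vec_img hu.mem h _ 1).trans (by decide +kernel)
      · exact (vec_img hu.mem h _ 2).trans (by decide +kernel)
      · exact (vec_img hu.mem h _ 3).trans (by decide +kernel)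
    have u19 : u (⟨19, by decide⟩ : Fin chevD4.nroots) = (⟨6, by decide⟩ : Fin chevD4.nroots) := by
      apply find6
      · exact (vec_img hu.mem h _ 0).trans (by decide +kernel)
      · exact (vec_img hu.mem h _ 1).trans (by decide +kernel)
      · exact (vec_img hu.mem h _ 2).trans (by decide +kernel)
      · exact (vec_img hu.mem h _ 3).trans (by decide +kernel)
    rw [u18] at e18
    rw [u19] at e19
    rw [u6] at e6
    simp only at e18 e19 e6
    have key : ∀ x y z : K, (b : Matrix chevD4.Idx chevD4.Idx K) *ᵥ vv x y z = vv (c3 * z) (c1 * x) (c2 * y) := by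
      intro x y z
      rw [hv, hv, Matrix.mulVec_add, Matrix.mulVec_add, Matrix.mulVec_smul, Matrix.mulVec_smul, Matrix.mulVec_smul, e18, e19, e6]
      module
    have h1 := hb3' (vv 1 0 0)
    rw [key, key, key] at h1
    obtain ⟨h2, -, -⟩ := vv_inj h1
    refine ⟨fun x y z => ⟨_, _, _, key x y z⟩, 1, c1, c2 * c1, fun h => one_ne_zero h.1, ?_⟩
    rw [key]
    congr 1
    · rw [← h2]; ring
    · ring

/-- **no reflection** -/
theorem no_refl [Fintype K] (h3 : 3 ∣ Fintype.card K - 1) {X : K} (hX3 : X ^ 3 = 1) (hX1 : X ≠ 1) {a b g s : GL chevD4.Idx K}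
    (ha : a ∈ chevD4.diagonalSubgroup K) (hea : Ex X a (1, 0, 1, 1)) (hb : b ∈ (chev DData.dD4 (good_of_mem hD4) K).N)
    (hbT : b ∉ chevD4.diagonalSubgroup K) (hab : b * a = a * b) (ha3 : a ^ 3 = 1) (hg : g ∈ chevD4.group K)
    (hbg : b = g * a * g⁻¹) (hs : s ∈ chevD4.group K) (hsa : s * a * s⁻¹ = a) (hsb : s * b * s⁻¹ = b⁻¹) : False := by
  set R := chev DData.dD4 (good_of_mem hD4) K with hR
  have hX0 : X ≠ 0 := by
    rintro rfl
    exact one_ne_zero (hX3.symm.trans (by norm_num))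
  have hb3 : b ^ 3 = 1 := by rw [hbg, conj_pow, ha3]; simp
  have haG : a ∈ chevD4.group K := H_le_group DData.dD4 (good_of_mem hD4) ha
  have hbG : b ∈ chevD4.group K := by rw [hbg]; exact mul_mem (mul_mem hg haG) (inv_mem hg)
  obtain ⟨u, hu⟩ := RGrp.exists_act hb
  -- the Weyl group element
  have hfix : ∀ s, ev a (u s) = ev a s := by
    intro s
    have h1 := N_conj_ev DData.dD4 hD4 hb hu ha s
    rwa [hab, mul_inv_cancel_right] at h1
  obtain ⟨x, hx, hux⟩ := mem_LW hu.mem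
  have hactx : act (1, 0, 1, 1) x = (1, 0, 1, 1) := by
    have := act_of hX3 hX1 ha hea hux (f := (1, 0, 1, 1)) (by rw [hfix]; exact hea.1) (by rw [hfix]; exact hea.2.1)
      (by rw [hfix]; exact hea.2.2.1) (by rw [hfix]; exact hea.2.2.2)
    rw [this]; rfl
  have hu3 : u ^ 3 = 1 := by
    have h1 := act_pow DData.dD4 (hD := hD4) hu 3
    rw [hb3] at h1
    exact h1.unique RGrp.act_one
  have hx3 : (x.mul x).mul x = M4.one := by
    apply toMat_inj
    rw [M4.toMat_mul, M4.toMat_mul, ← hux, ← wmD_mul hu.mem, ← wmD_mul (mul_mem hu.mem hu.mem), M4.toMat_one]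
    have : u * u * u = 1 := by rw [← hu3]; simp only [pow_succ, pow_zero, one_mul]
    rw [this, wmD_one]
  have hxne : x ≠ M4.one := by
    intro h
    apply hbT
    apply RGrp.mem_H_of_act_one (R := R) hb
    have : u = 1 := wmD_inj hu.mem (one_mem _) (by rw [hux, h, M4.toMat_one, wmD_one])
    rw [← this]; exact hu
  have hw : wmD u = w1.toMat ∨ wmD u = w2.toMat := by
    have hc := stab_chk
    rw [List.all_eq_true] at hc
    have hc := hc x hx
    simp only [Bool.or_eq_true, Bool.not_eq_true', decide_eq_true_eq, decide_eq_false_iff_not] at hc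
    rcases hc with (((h | h) | h) | h) | h
    · exact absurd hactx h
    · exact absurd hx3 h
    · exact absurd h hxne
    · left; rw [hux, h]
    · right; rw [hux, h]
  obtain ⟨hP, x0, y0, z0, hnz, hfv⟩ := fixed_vec hb hu hb3 hw
  obtain ⟨g0, hg0, hc⟩ := exists_conj hbG hP h3 hb3 hnz hfv
  -- `g0` commutes with `a`
  have hcomm : ∀ y ∈ LL K b, y * a = a * y := by
    intro y hy
    have h1 : LL K b ≤ Subgroup.centralizer {a} := by
      unfold LL
      rw [Subgroup.closure_le]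
      rintro y (hy | ⟨r, hr, t, rfl⟩ | rfl)
      · exact Subgroup.mem_centralizer_singleton_iff.2 (diag_comm hD4 hy ha)
      · apply Subgroup.mem_centralizer_singleton_iff.2
        have hr24 : ∀ r ∈ ([14, 22, 23, 9, 1, 0] : List ℕ), r < chevD4.nroots := by decide
        have h2 := diag_mul_xU hD4 ha (⟨r, hr24 r hr⟩ : Fin chevD4.nroots) t
        have h4 : ev a (⟨r, hr24 r hr⟩ : Fin chevD4.nroots) = 1 := by
          rw [ex_root hX0 ha hea]
          have h5 : ∀ r ∈ ([14, 22, 23, 9, 1, 0] : List ℕ), (1 * vec chevD4 r 0 + 0 * vec chevD4 r 1 + 1 * vec chevD4 r 2 + 1 * vec chevD4 r 3 = 0) ∨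
              (1 * vec chevD4 r 0 + 0 * vec chevD4 r 1 + 1 * vec chevD4 r 2 + 1 * vec chevD4 r 3 = 3) ∨
              (1 * vec chevD4 r 0 + 0 * vec chevD4 r 1 + 1 * vec chevD4 r 2 + 1 * vec chevD4 r 3 = -3) := by decide +kernel
          rcases h5 r hr with h6 | h6 | h6
          · have : X ^ (1 * vec chevD4 r 0 + 0 * vec chevD4 r 1 + 1 * vec chevD4 r 2 + 1 * vec chevD4 r 3) = 1 := by
              rw [h6, _root_.zpow_zero]
            exact this
          · have : X ^ (1 * vec chevD4 r 0 + 0 * vec chevD4 r 1 + 1 * vec chevD4 r 2 + 1 * vec chevD4 r 3) = 1 := by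
              rw [h6]; exact_mod_cast hX3
            exact this
          · have : X ^ (1 * vec chevD4 r 0 + 0 * vec chevD4 r 1 + 1 * vec chevD4 r 2 + 1 * vec chevD4 r 3) = 1 := by
              rw [h6, _root_.zpow_neg]
              have : X ^ (3 : ℤ) = 1 := by exact_mod_cast hX3
              rw [this, inv_one]
            exact this
        rw [h4, one_mul] at h2
        have h6 := mul_inv_eq_iff_eq_mul.1 h2
        exact h6.symm
      · exact Subgroup.mem_centralizer_singleton_iff.2 hab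
    exact Subgroup.mem_centralizer_singleton_iff.1 (h1 hy)
  have hg0a := hcomm g0 hg0
  have hg0G : g0 ∈ chevD4.group K := LL_le hbG hg0
  set c := g0 * b * g0⁻¹ with hcdef
  -- `c` is conjugate to `a`
  have hca : c = (g0 * g) * a * (g0 * g)⁻¹ := by rw [hcdef, hbg]; group
  obtain ⟨_, _, n', hn', _, _, _, hfus'⟩ := fusion DData.dD4 hD4 (mul_mem hg0G hg)
  have hn'a : n' * a * n'⁻¹ = c := by
    rw [(hfus' a ha (by rw [← hca]; exact hc)).1, ← hca]
  obtain ⟨u', hu'⟩ := RGrp.exists_act hn'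
  obtain ⟨y, hy, huy⟩ := mem_LW (inv_mem hu'.mem)
  have hec : ∀ j : Fin 4, ev c (pD j) = ev a (u'⁻¹ (pD j)) := by
    intro j
    have h1 := N_conj_ev DData.dD4 hD4 hn' hu' ha (u'⁻¹ (pD j))
    have h2 : u' (u'⁻¹ (pD j)) = pD j := u'.apply_symm_apply _
    rw [hn'a, h2] at h1
    exact h1
  set e := act (1, 0, 1, 1) y with he
  have hred : ∀ m : ℤ, X ^ m = X ^ (m % 3) := by
    intro m
    have h1 : X ^ (3 : ℤ) = 1 := by exact_mod_cast hX3
    conv_lhs => rw [← Int.mul_ediv_add_emod m 3, zpow_add₀ hX0, _root_.zpow_mul, h1, _root_.one_zpow, one_mul]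
  have hExc : Ex X c e := by
    refine ⟨?_, ?_, ?_, ?_⟩
    · rw [hec, ex_img hX0 ha hea huy 0, hred]; rfl
    · rw [hec, ex_img hX0 ha hea huy 1, hred]; rfl
    · rw [hec, ex_img hX0 ha hea huy 2, hred]; rfl
    · rw [hec, ex_img hX0 ha hea huy 3, hred]; rfl
  -- the reflection
  set s' := g0 * s * g0⁻¹ with hs'
  have hs'G : s' ∈ chevD4.group K := mul_mem (mul_mem hg0G hs) (inv_mem hg0G)
  have hg0a' : g0⁻¹ * a * g0 = a := by
    rw [mul_assoc, ← hg0a]; group
  have hs'a : s' * a * s'⁻¹ = a := by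
    calc s' * a * s'⁻¹ = g0 * (s * (g0⁻¹ * a * g0) * s⁻¹) * g0⁻¹ := by rw [hs']; group
      _ = g0 * a * g0⁻¹ := by rw [hg0a', hsa]
      _ = a := by rw [hg0a, mul_inv_cancel_right]
  have hs'c : s' * c * s'⁻¹ = c⁻¹ := by
    calc s' * c * s'⁻¹ = g0 * (s * b * s⁻¹) * g0⁻¹ := by rw [hs', hcdef]; group
      _ = c⁻¹ := by rw [hsb, hcdef]; group
  obtain ⟨_, _, n, hn, _, _, _, hfus⟩ := fusion DData.dD4 hD4 hs'G
  have hna : n * a * n⁻¹ = a := by rw [(hfus a ha (by rw [hs'a]; exact ha)).1, hs'a]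
  have hnc : n * c * n⁻¹ = c⁻¹ := by rw [(hfus c hc (by rw [hs'c]; exact inv_mem hc)).1, hs'c]
  obtain ⟨v, hv⟩ := RGrp.exists_act hn
  obtain ⟨w, hw', hvw⟩ := mem_LW hv.mem
  have hva : ∀ s, ev a (v s) = ev a s := by
    intro s
    have h1 := N_conj_ev DData.dD4 hD4 hn hv ha s
    rwa [hna] at h1
  have hvc : ∀ s, ev c (v s) = (ev c s)⁻¹ := by
    intro s
    have h1 := N_conj_ev DData.dD4 hD4 hn hv hc s
    rw [hnc] at h1
    have h2 : ev c⁻¹ (v s) * ev c (v s) = 1 := by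
      rw [← ev_mul hD4 (inv_mem hc) hc, inv_mul_cancel, ev_one]
    rw [h1] at h2
    exact (inv_eq_of_mul_eq_one_right h2).symm
  have k1 : act (1, 0, 1, 1) w = (1, 0, 1, 1) := by
    have := act_of hX3 hX1 ha hea hvw (f := (1, 0, 1, 1)) (by rw [hva]; exact hea.1) (by rw [hva]; exact hea.2.1)
      (by rw [hva]; exact hea.2.2.1) (by rw [hva]; exact hea.2.2.2)
    rw [this]; rfl
  have k2 : act e w = ng e := by
    have := act_of hX3 hX1 hc hExc hvw (f := (-e.1, -e.2.1, -e.2.2.1, -e.2.2.2))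
      (by rw [hvc, hExc.1, _root_.zpow_neg]) (by rw [hvc, hExc.2.1, _root_.zpow_neg])
      (by rw [hvc, hExc.2.2.1, _root_.zpow_neg]) (by rw [hvc, hExc.2.2.2, _root_.zpow_neg])
    rw [this]; rfl
  have hc := final_chk
  rw [List.all_eq_true] at hc
  have hc := hc w hw'
  rw [Bool.or_eq_true] at hc
  rcases hc with hc | hc
  · simp only [Bool.not_eq_true', decide_eq_false_iff_not] at hc
    exact hc k1
  · rw [List.all_eq_true] at hc
    have hc := hc y hy
    simp only [Bool.not_eq_true', decide_eq_false_iff_not] at hc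
    exact hc k2

end Cfsg.Agent.H51.D4Diag
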