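import Cfsg.Agent.H51.F4W2

set_option autoImplicit false
set_option maxRecDepth 100000

/-!
The Weyl group of type D4 by explicit integral matrices, and the subgroup fixed by triality.
-/

namespace Cfsg.Agent.H51.D4W

open Matrix Cfsg.Agent.H51.F4W Cfsg.Agent.H51.F4W.M4

/-- reflection 0 -/
def S0 : M4 := ⟨-1, 1, 0, 0, 0, 1, 0, 0, 0, 0, 1, 0, 0, 0, 0, 1⟩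

/-- reflection 1 -/
def S1 : M4 := ⟨1, 0, 0, 0, 1, -1, 1, 1, 0, 0, 1, 0, 0, 0, 0, 1⟩

/-- reflection 2 -/
def S2 : M4 := ⟨1, 0, 0, 0, 0, 1, 0, 0, 0, 1, -1, 0, 0, 0, 0, 1⟩

/-- reflection 3 -/
def S3 : M4 := ⟨1, 0, 0, 0, 0, 1, 0, 0, 0, 0, 1, 0, 0, 1, 0, -1⟩

/-- the elements of the Weyl group -/
def LW : List M4 :=
  [⟨1, 0, 0, 0, 0, 1, 0, 0, 0, 0, 1, 0, 0, 0, 0, 1⟩,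
  ⟨-1, 1, 0, 0, 0, 1, 0, 0, 0, 0, 1, 0, 0, 0, 0, 1⟩,
  ⟨1, 0, 0, 0, 1, -1, 1, 1, 0, 0, 1, 0, 0, 0, 0, 1⟩,
  ⟨1, 0, 0, 0, 0, 1, 0, 0, 0, 1, -1, 0, 0, 0, 0, 1⟩,
  ⟨1, 0, 0, 0, 0, 1, 0, 0, 0, 0, 1, 0, 0, 1, 0, -1⟩,
  ⟨-1, 1, 0, 0, -1, 0, 1, 1, 0, 0, 1, 0, 0, 0, 0, 1⟩,
  ⟨-1, 1, 0, 0, 0, 1, 0, 0, 0, 1, -1, 0, 0, 0, 0, 1⟩,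
  ⟨-1, 1, 0, 0, 0, 1, 0, 0, 0, 0, 1, 0, 0, 1, 0, -1⟩,
  ⟨0, -1, 1, 1, 1, -1, 1, 1, 0, 0, 1, 0, 0, 0, 0, 1⟩,
  ⟨1, 0, 0, 0, 1, -1, 1, 1, 1, -1, 0, 1, 0, 0, 0, 1⟩,
  ⟨1, 0, 0, 0, 1, -1, 1, 1, 0, 0, 1, 0, 1, -1, 1, 0⟩,
  ⟨1, 0, 0, 0, 1, 0, -1, 1, 0, 1, -1, 0, 0, 0, 0, 1⟩,
  ⟨1, 0, 0, 0, 0, 1, 0, 0, 0, 1, -1, 0, 0, 1, 0, -1⟩,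
  ⟨1, 0, 0, 0, 1, 0, 1, -1, 0, 0, 1, 0, 0, 1, 0, -1⟩,
  ⟨0, -1, 1, 1, -1, 0, 1, 1, 0, 0, 1, 0, 0, 0, 0, 1⟩,
  ⟨-1, 1, 0, 0, -1, 0, 1, 1, -1, 0, 0, 1, 0, 0, 0, 1⟩,
  ⟨-1, 1, 0, 0, -1, 0, 1, 1, 0, 0, 1, 0, -1, 0, 1, 0⟩,
  ⟨-1, 1, 0, 0, -1, 1, -1, 1, 0, 1, -1, 0, 0, 0, 0, 1⟩,
  ⟨-1, 1, 0, 0, 0, 1, 0, 0, 0, 1, -1, 0, 0, 1, 0, -1⟩,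
  ⟨-1, 1, 0, 0, -1, 1, 1, -1, 0, 0, 1, 0, 0, 1, 0, -1⟩,
  ⟨0, -1, 1, 1, 1, -1, 1, 1, 1, -1, 0, 1, 0, 0, 0, 1⟩,
  ⟨0, -1, 1, 1, 1, -1, 1, 1, 0, 0, 1, 0, 1, -1, 1, 0⟩,
  ⟨1, 0, 0, 0, 1, 0, -1, 1, 1, -1, 0, 1, 0, 0, 0, 1⟩,
  ⟨1, 0, 0, 0, 1, -1, 1, 1, 1, -1, 0, 1, 1, -1, 1, 0⟩,
  ⟨1, 0, 0, 0, 1, 0, 1, -1, 0, 0, 1, 0, 1, -1, 1, 0⟩,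
  ⟨0, 0, -1, 1, 1, 0, -1, 1, 0, 1, -1, 0, 0, 0, 0, 1⟩,
  ⟨1, 0, 0, 0, 1, 0, -1, 1, 0, 1, -1, 0, 1, 0, -1, 0⟩,
  ⟨1, 0, 0, 0, 1, 1, -1, -1, 0, 1, -1, 0, 0, 1, 0, -1⟩,
  ⟨0, 0, 1, -1, 1, 0, 1, -1, 0, 0, 1, 0, 0, 1, 0, -1⟩,
  ⟨1, 0, 0, 0, 1, 0, 1, -1, 1, 0, 0, -1, 0, 1, 0, -1⟩,
  ⟨0, -1, 1, 1, -1, 0, 1, 1, -1, 0, 0, 1, 0, 0, 0, 1⟩,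
  ⟨0, -1, 1, 1, -1, 0, 1, 1, 0, 0, 1, 0, -1, 0, 1, 0⟩,
  ⟨-1, 1, 0, 0, -1, 1, -1, 1, -1, 0, 0, 1, 0, 0, 0, 1⟩,
  ⟨-1, 1, 0, 0, -1, 0, 1, 1, -1, 0, 0, 1, -1, 0, 1, 0⟩,
  ⟨-1, 1, 0, 0, -1, 1, 1, -1, 0, 0, 1, 0, -1, 0, 1, 0⟩,
  ⟨0, 0, -1, 1, -1, 1, -1, 1, 0, 1, -1, 0, 0, 0, 0, 1⟩,
  ⟨-1, 1, 0, 0, -1, 1, -1, 1, 0, 1, -1, 0, -1, 1, -1, 0⟩,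
  ⟨-1, 1, 0, 0, -1, 2, -1, -1, 0, 1, -1, 0, 0, 1, 0, -1⟩,
  ⟨0, 0, 1, -1, -1, 1, 1, -1, 0, 0, 1, 0, 0, 1, 0, -1⟩,
  ⟨-1, 1, 0, 0, -1, 1, 1, -1, -1, 1, 0, -1, 0, 1, 0, -1⟩,
  ⟨0, -1, 1, 1, 0, -1, 0, 2, 1, -1, 0, 1, 0, 0, 0, 1⟩,
  ⟨0, -1, 1, 1, 1, -1, 1, 1, 1, -1, 0, 1, 1, -1, 1, 0⟩,
  ⟨0, -1, 1, 1, 0, -1, 2, 0, 0, 0, 1, 0, 1, -1, 1, 0⟩,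
  ⟨0, 0, -1, 1, 1, 0, -1, 1, 1, -1, 0, 1, 0, 0, 0, 1⟩,
  ⟨1, 0, 0, 0, 1, 0, -1, 1, 1, -1, 0, 1, 1, 0, -1, 0⟩,
  ⟨1, 0, 0, 0, 2, -1, 0, 0, 1, -1, 0, 1, 1, -1, 1, 0⟩,
  ⟨0, 0, 1, -1, 1, 0, 1, -1, 0, 0, 1, 0, 1, -1, 1, 0⟩,
  ⟨1, 0, 0, 0, 1, 0, 1, -1, 1, 0, 0, -1, 1, -1, 1, 0⟩,
  ⟨0, 0, -1, 1, 1, 0, -1, 1, 0, 1, -1, 0, 1, 0, -1, 0⟩,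
  ⟨1, 0, 0, 0, 1, 1, -1, -1, 0, 1, -1, 0, 1, 0, -1, 0⟩,
  ⟨0, 1, -1, -1, 1, 1, -1, -1, 0, 1, -1, 0, 0, 1, 0, -1⟩,
  ⟨1, 0, 0, 0, 1, 1, -1, -1, 1, 0, 0, -1, 0, 1, 0, -1⟩,
  ⟨0, 0, 1, -1, 1, 0, 1, -1, 1, 0, 0, -1, 0, 1, 0, -1⟩,
  ⟨0, -1, 1, 1, 0, -1, 0, 2, -1, 0, 0, 1, 0, 0, 0, 1⟩,
  ⟨0, -1, 1, 1, -1, 0, 1, 1, -1, 0, 0, 1, -1, 0, 1, 0⟩,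
  ⟨0, -1, 1, 1, 0, -1, 2, 0, 0, 0, 1, 0, -1, 0, 1, 0⟩,
  ⟨0, 0, -1, 1, -1, 1, -1, 1, -1, 0, 0, 1, 0, 0, 0, 1⟩,
  ⟨-1, 1, 0, 0, -1, 1, -1, 1, -1, 0, 0, 1, -1, 1, -1, 0⟩,
  ⟨-1, 1, 0, 0, -2, 1, 0, 0, -1, 0, 0, 1, -1, 0, 1, 0⟩,
  ⟨0, 0, 1, -1, -1, 1, 1, -1, 0, 0, 1, 0, -1, 0, 1, 0⟩,
  ⟨-1, 1, 0, 0, -1, 1, 1, -1, -1, 1, 0, -1, -1, 0, 1, 0⟩,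
  ⟨0, 0, -1, 1, -1, 1, -1, 1, 0, 1, -1, 0, -1, 1, -1, 0⟩,
  ⟨-1, 1, 0, 0, -1, 2, -1, -1, 0, 1, -1, 0, -1, 1, -1, 0⟩,
  ⟨0, 1, -1, -1, -1, 2, -1, -1, 0, 1, -1, 0, 0, 1, 0, -1⟩,
  ⟨-1, 1, 0, 0, -1, 2, -1, -1, -1, 1, 0, -1, 0, 1, 0, -1⟩,
  ⟨0, 0, 1, -1, -1, 1, 1, -1, -1, 1, 0, -1, 0, 1, 0, -1⟩,
  ⟨0, 0, -1, 1, 0, -1, 0, 2, 1, -1, 0, 1, 0, 0, 0, 1⟩,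
  ⟨0, -1, 1, 1, 0, -1, 0, 2, 1, -1, 0, 1, 0, -1, 0, 1⟩,
  ⟨0, -1, 1, 1, 1, -2, 1, 1, 1, -1, 0, 1, 1, -1, 1, 0⟩,
  ⟨0, 0, 1, -1, 0, -1, 2, 0, 0, 0, 1, 0, 1, -1, 1, 0⟩,
  ⟨0, -1, 1, 1, 0, -1, 2, 0, 0, -1, 1, 0, 1, -1, 1, 0⟩,
  ⟨0, 0, -1, 1, 1, 0, -1, 1, 1, -1, 0, 1, 1, 0, -1, 0⟩,
  ⟨1, 0, 0, 0, 2, -1, 0, 0, 1, -1, 0, 1, 1, 0, -1, 0⟩,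
  ⟨1, -1, 0, 0, 2, -1, 0, 0, 1, -1, 0, 1, 1, -1, 1, 0⟩,
  ⟨1, 0, 0, 0, 2, -1, 0, 0, 1, 0, 0, -1, 1, -1, 1, 0⟩,
  ⟨0, 0, 1, -1, 1, 0, 1, -1, 1, 0, 0, -1, 1, -1, 1, 0⟩,
  ⟨0, 0, -1, 1, 0, 1, -2, 0, 0, 1, -1, 0, 1, 0, -1, 0⟩,
  ⟨0, 1, -1, -1, 1, 1, -1, -1, 0, 1, -1, 0, 1, 0, -1, 0⟩,
  ⟨1, 0, 0, 0, 1, 1, -1, -1, 1, 0, 0, -1, 1, 0, -1, 0⟩,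
  ⟨0, 1, -1, -1, 1, 1, -1, -1, 1, 0, 0, -1, 0, 1, 0, -1⟩,
  ⟨0, 0, 1, -1, 0, 1, 0, -2, 1, 0, 0, -1, 0, 1, 0, -1⟩,
  ⟨0, 0, -1, 1, 0, -1, 0, 2, -1, 0, 0, 1, 0, 0, 0, 1⟩,
  ⟨0, -1, 1, 1, 0, -1, 0, 2, -1, 0, 0, 1, 0, -1, 0, 1⟩,
  ⟨0, -1, 1, 1, -1, -1, 1, 1, -1, 0, 0, 1, -1, 0, 1, 0⟩,
  ⟨0, 0, 1, -1, 0, -1, 2, 0, 0, 0, 1, 0, -1, 0, 1, 0⟩,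
  ⟨0, -1, 1, 1, 0, -1, 2, 0, 0, -1, 1, 0, -1, 0, 1, 0⟩,
  ⟨0, 0, -1, 1, -1, 1, -1, 1, -1, 0, 0, 1, -1, 1, -1, 0⟩,
  ⟨-1, 1, 0, 0, -2, 1, 0, 0, -1, 0, 0, 1, -1, 1, -1, 0⟩,
  ⟨-1, 0, 0, 0, -2, 1, 0, 0, -1, 0, 0, 1, -1, 0, 1, 0⟩,
  ⟨-1, 1, 0, 0, -2, 1, 0, 0, -1, 1, 0, -1, -1, 0, 1, 0⟩,
  ⟨0, 0, 1, -1, -1, 1, 1, -1, -1, 1, 0, -1, -1, 0, 1, 0⟩,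
  ⟨0, 0, -1, 1, 0, 1, -2, 0, 0, 1, -1, 0, -1, 1, -1, 0⟩,
  ⟨0, 1, -1, -1, -1, 2, -1, -1, 0, 1, -1, 0, -1, 1, -1, 0⟩,
  ⟨-1, 1, 0, 0, -1, 2, -1, -1, -1, 1, 0, -1, -1, 1, -1, 0⟩,
  ⟨0, 1, -1, -1, -1, 2, -1, -1, -1, 1, 0, -1, 0, 1, 0, -1⟩,
  ⟨0, 0, 1, -1, 0, 1, 0, -2, -1, 1, 0, -1, 0, 1, 0, -1⟩,
  ⟨0, 0, -1, 1, 0, -1, 0, 2, 1, -1, 0, 1, 0, -1, 0, 1⟩,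
  ⟨0, -1, 1, 1, 1, -2, 1, 1, 1, -1, 0, 1, 0, -1, 0, 1⟩,
  ⟨1, -1, 0, 0, 1, -2, 1, 1, 1, -1, 0, 1, 1, -1, 1, 0⟩,
  ⟨0, -1, 1, 1, 1, -2, 1, 1, 0, -1, 1, 0, 1, -1, 1, 0⟩,
  ⟨0, 0, 1, -1, 0, -1, 2, 0, 0, -1, 1, 0, 1, -1, 1, 0⟩,
  ⟨0, 0, -1, 1, 1, -1, -1, 1, 1, -1, 0, 1, 1, 0, -1, 0⟩,
  ⟨1, -1, 0, 0, 2, -1, 0, 0, 1, -1, 0, 1, 1, 0, -1, 0⟩,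
  ⟨1, 0, 0, 0, 2, -1, 0, 0, 1, 0, 0, -1, 1, 0, -1, 0⟩,
  ⟨1, -1, 0, 0, 2, -1, 0, 0, 1, 0, 0, -1, 1, -1, 1, 0⟩,
  ⟨0, 0, 1, -1, 1, -1, 1, -1, 1, 0, 0, -1, 1, -1, 1, 0⟩,
  ⟨0, 1, -1, -1, 0, 1, -2, 0, 0, 1, -1, 0, 1, 0, -1, 0⟩,
  ⟨0, 0, -1, 1, 0, 1, -2, 0, 0, 0, -1, 0, 1, 0, -1, 0⟩,
  ⟨0, 1, -1, -1, 1, 1, -1, -1, 1, 0, 0, -1, 1, 0, -1, 0⟩,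
  ⟨0, 1, -1, -1, 0, 1, 0, -2, 1, 0, 0, -1, 0, 1, 0, -1⟩,
  ⟨0, 0, 1, -1, 0, 1, 0, -2, 1, 0, 0, -1, 0, 0, 0, -1⟩,
  ⟨0, 0, -1, 1, 0, -1, 0, 2, -1, 0, 0, 1, 0, -1, 0, 1⟩,
  ⟨0, -1, 1, 1, -1, -1, 1, 1, -1, 0, 0, 1, 0, -1, 0, 1⟩,
  ⟨-1, 0, 0, 0, -1, -1, 1, 1, -1, 0, 0, 1, -1, 0, 1, 0⟩,
  ⟨0, -1, 1, 1, -1, -1, 1, 1, 0, -1, 1, 0, -1, 0, 1, 0⟩,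
  ⟨0, 0, 1, -1, 0, -1, 2, 0, 0, -1, 1, 0, -1, 0, 1, 0⟩,
  ⟨0, 0, -1, 1, -1, 0, -1, 1, -1, 0, 0, 1, -1, 1, -1, 0⟩,
  ⟨-1, 0, 0, 0, -2, 1, 0, 0, -1, 0, 0, 1, -1, 1, -1, 0⟩,
  ⟨-1, 1, 0, 0, -2, 1, 0, 0, -1, 1, 0, -1, -1, 1, -1, 0⟩,
  ⟨-1, 0, 0, 0, -2, 1, 0, 0, -1, 1, 0, -1, -1, 0, 1, 0⟩,
  ⟨0, 0, 1, -1, -1, 0, 1, -1, -1, 1, 0, -1, -1, 0, 1, 0⟩,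
  ⟨0, 1, -1, -1, 0, 1, -2, 0, 0, 1, -1, 0, -1, 1, -1, 0⟩,
  ⟨0, 0, -1, 1, 0, 1, -2, 0, 0, 0, -1, 0, -1, 1, -1, 0⟩,
  ⟨0, 1, -1, -1, -1, 2, -1, -1, -1, 1, 0, -1, -1, 1, -1, 0⟩,
  ⟨0, 1, -1, -1, 0, 1, 0, -2, -1, 1, 0, -1, 0, 1, 0, -1⟩,
  ⟨0, 0, 1, -1, 0, 1, 0, -2, -1, 1, 0, -1, 0, 0, 0, -1⟩,
  ⟨0, 0, -1, 1, 1, -1, -1, 1, 1, -1, 0, 1, 0, -1, 0, 1⟩,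
  ⟨1, -1, 0, 0, 1, -2, 1, 1, 1, -1, 0, 1, 0, -1, 0, 1⟩,
  ⟨0, -1, 1, 1, 1, -2, 1, 1, 0, -1, 1, 0, 0, -1, 0, 1⟩,
  ⟨1, -1, 0, 0, 1, -2, 1, 1, 0, -1, 1, 0, 1, -1, 1, 0⟩,
  ⟨0, 0, 1, -1, 1, -1, 1, -1, 0, -1, 1, 0, 1, -1, 1, 0⟩,
  ⟨1, -1, 0, 0, 1, -1, -1, 1, 1, -1, 0, 1, 1, 0, -1, 0⟩,
  ⟨0, 0, -1, 1, 1, -1, -1, 1, 0, 0, -1, 0, 1, 0, -1, 0⟩,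
  ⟨1, -1, 0, 0, 2, -1, 0, 0, 1, 0, 0, -1, 1, 0, -1, 0⟩,
  ⟨1, -1, 0, 0, 1, -1, 1, -1, 1, 0, 0, -1, 1, -1, 1, 0⟩,
  ⟨0, 0, 1, -1, 1, -1, 1, -1, 1, 0, 0, -1, 0, 0, 0, -1⟩,
  ⟨0, 1, -1, -1, 0, 1, -2, 0, 0, 0, -1, 0, 1, 0, -1, 0⟩,
  ⟨0, 1, -1, -1, 1, 0, -1, -1, 1, 0, 0, -1, 1, 0, -1, 0⟩,
  ⟨0, 1, -1, -1, 0, 1, 0, -2, 1, 0, 0, -1, 0, 0, 0, -1⟩,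
  ⟨0, 0, -1, 1, -1, 0, -1, 1, -1, 0, 0, 1, 0, -1, 0, 1⟩,
  ⟨-1, 0, 0, 0, -1, -1, 1, 1, -1, 0, 0, 1, 0, -1, 0, 1⟩,
  ⟨0, -1, 1, 1, -1, -1, 1, 1, 0, -1, 1, 0, 0, -1, 0, 1⟩,
  ⟨-1, 0, 0, 0, -1, -1, 1, 1, 0, -1, 1, 0, -1, 0, 1, 0⟩,
  ⟨0, 0, 1, -1, -1, 0, 1, -1, 0, -1, 1, 0, -1, 0, 1, 0⟩,
  ⟨-1, 0, 0, 0, -1, 0, -1, 1, -1, 0, 0, 1, -1, 1, -1, 0⟩,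
  ⟨0, 0, -1, 1, -1, 0, -1, 1, 0, 0, -1, 0, -1, 1, -1, 0⟩,
  ⟨-1, 0, 0, 0, -2, 1, 0, 0, -1, 1, 0, -1, -1, 1, -1, 0⟩,
  ⟨-1, 0, 0, 0, -1, 0, 1, -1, -1, 1, 0, -1, -1, 0, 1, 0⟩,
  ⟨0, 0, 1, -1, -1, 0, 1, -1, -1, 1, 0, -1, 0, 0, 0, -1⟩,
  ⟨0, 1, -1, -1, 0, 1, -2, 0, 0, 0, -1, 0, -1, 1, -1, 0⟩,
  ⟨0, 1, -1, -1, -1, 1, -1, -1, -1, 1, 0, -1, -1, 1, -1, 0⟩,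
  ⟨0, 1, -1, -1, 0, 1, 0, -2, -1, 1, 0, -1, 0, 0, 0, -1⟩,
  ⟨1, -1, 0, 0, 1, -1, -1, 1, 1, -1, 0, 1, 0, -1, 0, 1⟩,
  ⟨0, 0, -1, 1, 1, -1, -1, 1, 0, 0, -1, 0, 0, -1, 0, 1⟩,
  ⟨1, -1, 0, 0, 1, -2, 1, 1, 0, -1, 1, 0, 0, -1, 0, 1⟩,
  ⟨1, -1, 0, 0, 1, -1, 1, -1, 0, -1, 1, 0, 1, -1, 1, 0⟩,
  ⟨0, 0, 1, -1, 1, -1, 1, -1, 0, -1, 1, 0, 0, 0, 0, -1⟩,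
  ⟨1, -1, 0, 0, 1, -1, -1, 1, 0, 0, -1, 0, 1, 0, -1, 0⟩,
  ⟨1, -1, 0, 0, 1, 0, -1, -1, 1, 0, 0, -1, 1, 0, -1, 0⟩,
  ⟨1, -1, 0, 0, 1, -1, 1, -1, 1, 0, 0, -1, 0, 0, 0, -1⟩,
  ⟨0, 1, -1, -1, 1, 0, -1, -1, 0, 0, -1, 0, 1, 0, -1, 0⟩,
  ⟨0, 1, -1, -1, 1, 0, -1, -1, 1, 0, 0, -1, 0, 0, 0, -1⟩,
  ⟨-1, 0, 0, 0, -1, 0, -1, 1, -1, 0, 0, 1, 0, -1, 0, 1⟩,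
  ⟨0, 0, -1, 1, -1, 0, -1, 1, 0, 0, -1, 0, 0, -1, 0, 1⟩,
  ⟨-1, 0, 0, 0, -1, -1, 1, 1, 0, -1, 1, 0, 0, -1, 0, 1⟩,
  ⟨-1, 0, 0, 0, -1, 0, 1, -1, 0, -1, 1, 0, -1, 0, 1, 0⟩,
  ⟨0, 0, 1, -1, -1, 0, 1, -1, 0, -1, 1, 0, 0, 0, 0, -1⟩,
  ⟨-1, 0, 0, 0, -1, 0, -1, 1, 0, 0, -1, 0, -1, 1, -1, 0⟩,
  ⟨-1, 0, 0, 0, -1, 1, -1, -1, -1, 1, 0, -1, -1, 1, -1, 0⟩,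
  ⟨-1, 0, 0, 0, -1, 0, 1, -1, -1, 1, 0, -1, 0, 0, 0, -1⟩,
  ⟨0, 1, -1, -1, -1, 1, -1, -1, 0, 0, -1, 0, -1, 1, -1, 0⟩,
  ⟨0, 1, -1, -1, -1, 1, -1, -1, -1, 1, 0, -1, 0, 0, 0, -1⟩,
  ⟨1, -1, 0, 0, 1, -1, -1, 1, 0, 0, -1, 0, 0, -1, 0, 1⟩,
  ⟨1, -1, 0, 0, 0, -1, 0, 0, 0, -1, 1, 0, 0, -1, 0, 1⟩,
  ⟨1, -1, 0, 0, 1, -1, 1, -1, 0, -1, 1, 0, 0, 0, 0, -1⟩,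
  ⟨1, -1, 0, 0, 1, 0, -1, -1, 0, 0, -1, 0, 1, 0, -1, 0⟩,
  ⟨1, -1, 0, 0, 1, 0, -1, -1, 1, 0, 0, -1, 0, 0, 0, -1⟩,
  ⟨0, 1, -1, -1, 1, 0, -1, -1, 0, 0, -1, 0, 0, 0, 0, -1⟩,
  ⟨-1, 0, 0, 0, -1, 0, -1, 1, 0, 0, -1, 0, 0, -1, 0, 1⟩,
  ⟨-1, 0, 0, 0, 0, -1, 0, 0, 0, -1, 1, 0, 0, -1, 0, 1⟩,
  ⟨-1, 0, 0, 0, -1, 0, 1, -1, 0, -1, 1, 0, 0, 0, 0, -1⟩,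
  ⟨-1, 0, 0, 0, -1, 1, -1, -1, 0, 0, -1, 0, -1, 1, -1, 0⟩,
  ⟨-1, 0, 0, 0, -1, 1, -1, -1, -1, 1, 0, -1, 0, 0, 0, -1⟩,
  ⟨0, 1, -1, -1, -1, 1, -1, -1, 0, 0, -1, 0, 0, 0, 0, -1⟩,
  ⟨1, -1, 0, 0, 0, -1, 0, 0, 0, 0, -1, 0, 0, -1, 0, 1⟩,
  ⟨1, -1, 0, 0, 0, -1, 0, 0, 0, -1, 1, 0, 0, 0, 0, -1⟩,
  ⟨1, -1, 0, 0, 1, 0, -1, -1, 0, 0, -1, 0, 0, 0, 0, -1⟩,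
  ⟨-1, 0, 0, 0, 0, -1, 0, 0, 0, 0, -1, 0, 0, -1, 0, 1⟩,
  ⟨-1, 0, 0, 0, 0, -1, 0, 0, 0, -1, 1, 0, 0, 0, 0, -1⟩,
  ⟨-1, 0, 0, 0, -1, 1, -1, -1, 0, 0, -1, 0, 0, 0, 0, -1⟩,
  ⟨1, -1, 0, 0, 0, -1, 0, 0, 0, 0, -1, 0, 0, 0, 0, -1⟩,
  ⟨-1, 0, 0, 0, 0, -1, 0, 0, 0, 0, -1, 0, 0, 0, 0, -1⟩]

/-- the elements commuting with triality -/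
def LG : List M4 :=
  [⟨1, 0, 0, 0, 0, 1, 0, 0, 0, 0, 1, 0, 0, 0, 0, 1⟩,
  ⟨-1, 1, 0, 0, 0, 1, 0, 0, 0, 1, -1, 0, 0, 1, 0, -1⟩,
  ⟨1, 0, 0, 0, 1, -1, 1, 1, 0, 0, 1, 0, 0, 0, 0, 1⟩,
  ⟨-1, 1, 0, 0, -1, 2, -1, -1, 0, 1, -1, 0, 0, 1, 0, -1⟩,
  ⟨0, -1, 1, 1, 1, -1, 1, 1, 1, -1, 0, 1, 1, -1, 1, 0⟩,
  ⟨0, 1, -1, -1, -1, 2, -1, -1, -1, 1, 0, -1, -1, 1, -1, 0⟩,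
  ⟨0, -1, 1, 1, 1, -2, 1, 1, 1, -1, 0, 1, 1, -1, 1, 0⟩,
  ⟨0, 1, -1, -1, -1, 1, -1, -1, -1, 1, 0, -1, -1, 1, -1, 0⟩,
  ⟨1, -1, 0, 0, 1, -2, 1, 1, 0, -1, 1, 0, 0, -1, 0, 1⟩,
  ⟨-1, 0, 0, 0, -1, 1, -1, -1, 0, 0, -1, 0, 0, 0, 0, -1⟩,
  ⟨1, -1, 0, 0, 0, -1, 0, 0, 0, -1, 1, 0, 0, -1, 0, 1⟩,
  ⟨-1, 0, 0, 0, 0, -1, 0, 0, 0, 0, -1, 0, 0, 0, 0, -1⟩]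


theorem clo : ([S0, S1, S2, S3].all fun r => LW.all fun x => LW.any fun y => decide (r.mul x = y)) = true := by
  decide +kernel

theorem cloG : ([S0.mul (S2.mul S3), S1].all fun r => LG.all fun x => LG.any fun y => decide (r.mul x = y)) = true := by
  decide +kernel

/-- action on exponents modulo three -/
def act (c : ℤ × ℤ × ℤ × ℤ) (m : M4) : ℤ × ℤ × ℤ × ℤ :=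
  ((c.1 * m.a00 + c.2.1 * m.a10 + c.2.2.1 * m.a20 + c.2.2.2 * m.a30) % 3,
   (c.1 * m.a01 + c.2.1 * m.a11 + c.2.2.1 * m.a21 + c.2.2.2 * m.a31) % 3,
   (c.1 * m.a02 + c.2.1 * m.a12 + c.2.2.1 * m.a22 + c.2.2.2 * m.a32) % 3,
   (c.1 * m.a03 + c.2.1 * m.a13 + c.2.2.1 * m.a23 + c.2.2.2 * m.a33) % 3)

/-- inverse -/
def ng (c : ℤ × ℤ × ℤ × ℤ) : ℤ × ℤ × ℤ × ℤ := ((-c.1) % 3, (-c.2.1) % 3, (-c.2.2.1) % 3, (-c.2.2.2) % 3)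

theorem final_chk : (LW.all fun x => !decide (act (1, 0, 1, 1) x = (1, 0, 1, 1)) ||
    LW.all fun y => !decide (act (act (1, 0, 1, 1) y) x = ng (act (1, 0, 1, 1) y))) = true := by
  decide +kernel

/-- the first rotation -/
def w1 : M4 := ⟨0, 1, -1, -1, -1, 1, -1, -1, -1, 1, 0, -1, -1, 1, -1, 0⟩
/-- the second rotation -/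
def w2 : M4 := ⟨1, -1, 0, 0, 1, -2, 1, 1, 0, -1, 1, 0, 0, -1, 0, 1⟩

theorem stab_chk : (LW.all fun x => !decide (act (1, 0, 1, 1) x = (1, 0, 1, 1)) ||
    !decide ((x.mul x).mul x = one) || decide (x = one) || decide (x = w1) || decide (x = w2)) = true := by
  decide +kernel

theorem rot_chk : (LG.all fun x => decide (((x.mul x).mul x).mul ((x.mul x).mul x) = one) &&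
    (!decide ((x.mul x).mul x = one) || decide (x = one) || decide (x = w1) || decide (x = w2))) = true := by
  decide +kernel

end Cfsg.Agent.H51.D4W
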