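import Mathlib

set_option autoImplicit false
set_option maxRecDepth 100000

/-!
The Weyl group of type F4 by explicit integral matrices: every element `M` satisfies
`M ^ 8 = 1`, `M ^ 6 = 1` or `M ^ 6 = -1`.
-/

namespace Cfsg.Agent.H51.F4W

open Matrix

/-- explicit 4 by 4 integral matrices -/
@[ext] structure M4 where
  a00 : ℤ
  a01 : ℤ
  a02 : ℤ
  a03 : ℤ
  a10 : ℤ
  a11 : ℤ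
  a12 : ℤ
  a13 : ℤ
  a20 : ℤ
  a21 : ℤ
  a22 : ℤ
  a23 : ℤ
  a30 : ℤ
  a31 : ℤ
  a32 : ℤ
  a33 : ℤ
deriving DecidableEq

namespace M4

/-- product -/
def mul (x y : M4) : M4 :=
  ⟨x.a00 * y.a00 + x.a01 * y.a10 + x.a02 * y.a20 + x.a03 * y.a30,
    x.a00 * y.a01 + x.a01 * y.a11 + x.a02 * y.a21 + x.a03 * y.a31,
    x.a00 * y.a02 + x.a01 * y.a12 + x.a02 * y.a22 + x.a03 * y.a32,
    x.a00 * y.a03 + x.a01 * y.a13 + x.a02 * y.a23 + x.a03 * y.a33,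
    x.a10 * y.a00 + x.a11 * y.a10 + x.a12 * y.a20 + x.a13 * y.a30,
    x.a10 * y.a01 + x.a11 * y.a11 + x.a12 * y.a21 + x.a13 * y.a31,
    x.a10 * y.a02 + x.a11 * y.a12 + x.a12 * y.a22 + x.a13 * y.a32,
    x.a10 * y.a03 + x.a11 * y.a13 + x.a12 * y.a23 + x.a13 * y.a33,
    x.a20 * y.a00 + x.a21 * y.a10 + x.a22 * y.a20 + x.a23 * y.a30,
    x.a20 * y.a01 + x.a21 * y.a11 + x.a22 * y.a21 + x.a23 * y.a31,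
    x.a20 * y.a02 + x.a21 * y.a12 + x.a22 * y.a22 + x.a23 * y.a32,
    x.a20 * y.a03 + x.a21 * y.a13 + x.a22 * y.a23 + x.a23 * y.a33,
    x.a30 * y.a00 + x.a31 * y.a10 + x.a32 * y.a20 + x.a33 * y.a30,
    x.a30 * y.a01 + x.a31 * y.a11 + x.a32 * y.a21 + x.a33 * y.a31,
    x.a30 * y.a02 + x.a31 * y.a12 + x.a32 * y.a22 + x.a33 * y.a32,
    x.a30 * y.a03 + x.a31 * y.a13 + x.a32 * y.a23 + x.a33 * y.a33⟩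

/-- the matrix -/
def toMat (x : M4) : Matrix (Fin 4) (Fin 4) ℤ :=
  !![x.a00, x.a01, x.a02, x.a03;
    x.a10, x.a11, x.a12, x.a13;
    x.a20, x.a21, x.a22, x.a23;
    x.a30, x.a31, x.a32, x.a33]

theorem toMat_mul (x y : M4) : (x.mul y).toMat = x.toMat * y.toMat := by
  ext i j
  fin_cases i <;> fin_cases j <;> simp [toMat, mul, Matrix.mul_apply, Fin.sum_univ_four]

/-- identity -/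
def one : M4 := ⟨1, 0, 0, 0, 0, 1, 0, 0, 0, 0, 1, 0, 0, 0, 0, 1⟩

/-- minus identity -/
def neg : M4 := ⟨-1, 0, 0, 0, 0, -1, 0, 0, 0, 0, -1, 0, 0, 0, 0, -1⟩

/-- reflection 0 -/
def R0 : M4 := ⟨-1, 1, 0, 0, 0, 1, 0, 0, 0, 0, 1, 0, 0, 0, 0, 1⟩

/-- reflection 1 -/
def R1 : M4 := ⟨1, 0, 0, 0, 1, -1, 2, 0, 0, 0, 1, 0, 0, 0, 0, 1⟩

/-- reflection 2 -/
def R2 : M4 := ⟨1, 0, 0, 0, 0, 1, 0, 0, 0, 1, -1, 1, 0, 0, 0, 1⟩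

/-- reflection 3 -/
def R3 : M4 := ⟨1, 0, 0, 0, 0, 1, 0, 0, 0, 0, 1, 0, 0, 0, 1, -1⟩

theorem toMat_one : one.toMat = 1 := by decide

theorem toMat_neg : neg.toMat = -1 := by decide

/-- coset representatives -/
def LA : List M4 :=
  [⟨1, 0, 0, 0, 0, 1, 0, 0, 0, 0, 1, 0, 0, 0, 0, 1⟩,
  ⟨1, 0, 0, 0, 0, 1, 0, 0, 0, 0, 1, 0, 0, 0, 1, -1⟩,
  ⟨1, 0, 0, 0, 0, 1, 0, 0, 0, 1, 0, -1, 0, 0, 1, -1⟩,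
  ⟨1, 0, 0, 0, 1, 1, 0, -2, 0, 1, 0, -1, 0, 0, 1, -1⟩,
  ⟨0, 1, 0, -2, 1, 1, 0, -2, 0, 1, 0, -1, 0, 0, 1, -1⟩,
  ⟨1, 0, 0, 0, 1, 1, 0, -2, 1, 0, 1, -2, 0, 0, 1, -1⟩,
  ⟨0, 1, 0, -2, 1, 1, 0, -2, 1, 0, 1, -2, 0, 0, 1, -1⟩,
  ⟨1, 0, 0, 0, 1, 1, 0, -2, 1, 0, 1, -2, 1, 0, 0, -1⟩,
  ⟨0, 1, 0, -2, 1, 0, 2, -4, 1, 0, 1, -2, 0, 0, 1, -1⟩,
  ⟨0, 1, 0, -2, 1, 1, 0, -2, 1, 0, 1, -2, 1, 0, 0, -1⟩,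
  ⟨0, 1, 0, -2, 1, 0, 2, -4, 0, 0, 2, -3, 0, 0, 1, -1⟩,
  ⟨0, 1, 0, -2, 1, 0, 2, -4, 1, 0, 1, -2, 1, 0, 0, -1⟩,
  ⟨0, 1, 0, -2, 1, 0, 2, -4, 0, 0, 2, -3, 0, 0, 1, -2⟩,
  ⟨0, 1, 0, -2, 1, 0, 2, -4, 1, 0, 1, -3, 1, 0, 0, -1⟩,
  ⟨0, 1, 0, -2, 1, 0, 2, -4, 1, 0, 1, -3, 0, 0, 1, -2⟩,
  ⟨0, 1, 0, -2, 1, 1, 0, -4, 1, 0, 1, -3, 1, 0, 0, -1⟩,
  ⟨0, 1, 0, -2, 1, 1, 0, -4, 1, 0, 1, -3, 0, 0, 1, -2⟩,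
  ⟨1, 0, 0, -2, 1, 1, 0, -4, 1, 0, 1, -3, 1, 0, 0, -1⟩,
  ⟨1, 0, 0, -2, 1, 1, 0, -4, 1, 0, 1, -3, 0, 0, 1, -2⟩,
  ⟨0, 1, 0, -2, 1, 1, 0, -4, 0, 1, 0, -3, 0, 0, 1, -2⟩,
  ⟨1, 0, 0, -2, 1, 1, 0, -4, 0, 1, 0, -3, 0, 0, 1, -2⟩,
  ⟨1, 0, 0, -2, 0, 1, 0, -4, 0, 1, 0, -3, 0, 0, 1, -2⟩,
  ⟨1, 0, 0, -2, 0, 1, 0, -4, 0, 0, 1, -3, 0, 0, 1, -2⟩,
  ⟨1, 0, 0, -2, 0, 1, 0, -4, 0, 0, 1, -3, 0, 0, 0, -1⟩]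

/-- coset representatives -/
def LB : List M4 :=
  [⟨1, 0, 0, 0, 0, 1, 0, 0, 0, 0, 1, 0, 0, 0, 0, 1⟩,
  ⟨-1, 1, 0, 0, 0, 1, 0, 0, 0, 0, 1, 0, 0, 0, 0, 1⟩,
  ⟨-1, 1, 0, 0, -1, 0, 2, 0, 0, 0, 1, 0, 0, 0, 0, 1⟩,
  ⟨-1, 1, 0, 0, -1, 0, 2, 0, -1, 0, 1, 1, 0, 0, 0, 1⟩,
  ⟨-1, 1, 0, 0, -2, 1, 0, 2, -1, 0, 1, 1, 0, 0, 0, 1⟩,
  ⟨-1, 0, 0, 2, -2, 1, 0, 2, -1, 0, 1, 1, 0, 0, 0, 1⟩]

/-- coset representatives -/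
def LC : List M4 :=
  [⟨1, 0, 0, 0, 0, 1, 0, 0, 0, 0, 1, 0, 0, 0, 0, 1⟩,
  ⟨1, 0, 0, 0, 0, 1, 0, 0, 0, 1, -1, 1, 0, 0, 0, 1⟩,
  ⟨1, 0, 0, 0, 1, 1, -2, 2, 0, 1, -1, 1, 0, 0, 0, 1⟩,
  ⟨1, 0, 0, 0, 1, 1, -2, 2, 1, 0, -1, 2, 0, 0, 0, 1⟩]

/-- coset representatives -/
def LD : List M4 :=
  [⟨1, 0, 0, 0, 0, 1, 0, 0, 0, 0, 1, 0, 0, 0, 0, 1⟩,
  ⟨1, 0, 0, 0, 1, -1, 2, 0, 0, 0, 1, 0, 0, 0, 0, 1⟩]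

/-- the order condition -/
def chk (m : M4) : Bool :=
  let m2 := m.mul m
  let m4 := m2.mul m2
  let m6 := m4.mul m2
  decide (m4.mul m4 = one) || decide (m6 = one) || decide (m6 = neg)

/-- closure test -/
def clo (G L G' : List M4) : Bool :=
  G.all fun r => L.all fun a => L.any fun a' => G'.any fun r' => decide (r.mul a = a'.mul r')

theorem clo4 : clo [one, R0, R1, R2, R3] LA [one, R0, R1, R2] = true := by decide +kernel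

theorem clo3 : clo [one, R0, R1, R2] LB [one, R1, R2] = true := by decide +kernel

theorem clo2 : clo [one, R1, R2] LC [one, R1] = true := by decide +kernel

theorem clo1 : clo [one, R1] LD [one] = true := by decide +kernel

theorem chk_all : (LA.all fun a => LB.all fun b => LC.all fun c => LD.all fun d =>
    chk (a.mul (b.mul (c.mul d)))) = true := by decide +kernel

end M4

end Cfsg.Agent.H51.F4W
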