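import Mathlib
import Cfsg.Prelude.Def_EvenType
import Cfsg.Agent.H51.ZJFun
import Cfsg.Agent.H33.StrongFusion
import Cfsg.Agent.Solv.MinNormal

/-!
Control of strong fusion by `N_G(W(D))`, `D` strongly closed.
-/

set_option autoImplicit false

namespace Cfsg.Agent.H51

open Cfsg
open Cfsg.Agent.ZJ
open scoped commutatorElement

universe u

section DPart

variable {G : Type u} [Group G]

/-- the part of `R` lying in conjugates of `D` -/
def dPart (D R : Subgroup G) : Subgroup G :=
  Subgroup.closure {x | x ∈ R ∧ ∃ g : G, g * x * g⁻¹ ∈ D}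

theorem dPart_le (D R : Subgroup G) : dPart D R ≤ R := (Subgroup.closure_le R).mpr fun _ h => h.1

theorem dPart_eq {D R P : Subgroup G} (hD : IsStronglyClosed D P) (hR : R ≤ P) :
    dPart D R = R ⊓ D := by
  apply le_antisymm
  · rw [dPart, Subgroup.closure_le]
    rintro x ⟨hx, g, hg⟩
    refine ⟨hx, ?_⟩
    have h1 := hD.2 _ hg g⁻¹
    have e : g⁻¹ * (g * x * g⁻¹) * g⁻¹⁻¹ = x := by group
    rw [e] at h1
    exact h1 (hR hx)
  · rintro x ⟨hx, hxD⟩
    exact Subgroup.subset_closure ⟨hx, 1, by simpa using hxD⟩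

theorem dPart_conj (D R : Subgroup G) (g : G) :
    dPart D (R.map (MulAut.conj g).toMonoidHom) = (dPart D R).map (MulAut.conj g).toMonoidHom := by
  rw [dPart, dPart, MonoidHom.map_closure]
  congr 1
  ext x
  constructor
  · rintro ⟨⟨y, hy, rfl⟩, k, hk⟩
    refine ⟨y, ⟨hy, k * g, ?_⟩, rfl⟩
    have e : k * g * y * (k * g)⁻¹ = k * (g * y * g⁻¹) * k⁻¹ := by group
    rw [e]; exact hk
  · rintro ⟨y, ⟨hy, k, hk⟩, rfl⟩
    refine ⟨⟨y, hy, rfl⟩, k * g⁻¹, ?_⟩
    show k * g⁻¹ * (g * y * g⁻¹) * (k * g⁻¹)⁻¹ ∈ D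
    have e : k * g⁻¹ * (g * y * g⁻¹) * (k * g⁻¹)⁻¹ = k * y * k⁻¹ := by group
    rw [e]; exact hk

open Classical in
/-- the conjugacy functor attached to `W` and `D` -/
noncomputable def wFun (W : ∀ (X : Type u) [Group X], Subgroup X) (D R : Subgroup G) : Subgroup G :=
  if dPart D R = ⊥ then R else rel W (dPart D R)

variable [Finite G] {p : ℕ} [hp : Fact p.Prime] {W : ∀ (X : Type u) [Group X], Subgroup X}

theorem isConjugacyFunctor_wFun (hW : GoodFun p W) (D : Subgroup G) :
    IsConjugacyFunctor p (wFun W D) := by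
  intro R hR
  refine ⟨?_, ?_, ?_⟩
  · unfold wFun
    split_ifs with h
    · exact le_rfl
    · exact (rel_le _ _).trans (dPart_le D R)
  · intro hR1
    unfold wFun
    split_ifs with h
    · exact hR1
    · exact rel_ne_bot hW (hR.to_le (dPart_le D R)) h
  · intro g
    unfold wFun
    rw [dPart_conj]
    by_cases h : dPart D R = ⊥
    · rw [if_pos h, if_pos (by rw [h, Subgroup.map_bot])]
    · rw [if_neg h, if_neg (by
        rwa [Subgroup.map_eq_bot_iff_of_injective _ (MulAut.conj g).injective]), rel_conj hW.nat]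

omit hp in
/-- a nontrivial strongly closed subgroup meets the centre of `P` -/
theorem exists_mem_center [hp : Fact p.Prime] (P : Sylow p G) {D : Subgroup G}
    (hD : IsStronglyClosed D (P : Subgroup G)) (hD1 : D ≠ ⊥) :
    ∃ z ∈ D, z ≠ 1 ∧ ∀ y ∈ (P : Subgroup G), z * y = y * z := by
  have hn : (D.subgroupOf (P : Subgroup G)).Normal :=
    Subgroup.normal_subgroupOf_of_le_normalizer (IsStronglyClosed.le_normalizer hD)
  have hnil : Group.IsNilpotent (P : Subgroup G) := P.isPGroup'.isNilpotent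
  have h1 : D.subgroupOf (P : Subgroup G) ≠ ⊥ := by
    rw [Ne, Subgroup.subgroupOf_eq_bot]
    intro h
    apply hD1
    rw [eq_bot_iff, ← h.eq_bot]
    exact le_inf le_rfl hD.1
  have h2 := Cfsg.Agent.Solv.inf_center_ne_bot_of_nilpotent (D.subgroupOf (P : Subgroup G)) h1
  obtain ⟨z, hz1⟩ := (Subgroup.ne_bot_iff_exists_ne_one).mp h2
  refine ⟨((z : (P : Subgroup G)) : G), Subgroup.mem_subgroupOf.mp z.2.1, ?_, ?_⟩
  · intro h
    apply hz1
    exact Subtype.ext (Subtype.ext h)
  · intro y hy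
    exact (congrArg Subtype.val ((Subgroup.mem_center_iff.mp z.2.2) ⟨y, hy⟩)).symm

end DPart

section Main

variable {G : Type u} [Group G] [Finite G] {p : ℕ} [hp : Fact p.Prime]
  {W : ∀ (X : Type u) [Group X], Subgroup X}

omit [Finite G] in
theorem exists_mem_of_SFc {𝒩 : Set (Subgroup G)} {S A N₀ : Subgroup G} {g : G}
    (h𝒩 : ∀ N ∈ 𝒩, N ≤ N₀) (h : Cfsg.Agent.H33.SFc 𝒩 S A g) :
    ∃ x ∈ N₀, ∀ a ∈ A, g * a * g⁻¹ = x * a * x⁻¹ := by
  induction h with
  | base A g hA h => exact ⟨1, N₀.one_mem, fun a ha => by rw [h a ha]; simp⟩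
  | step A N x g hN hx hA h ih =>
    obtain ⟨y, hy, hyA⟩ := ih
    refine ⟨y * x, N₀.mul_mem hy (h𝒩 N hN hx), fun a ha => ?_⟩
    have h1 := hyA (x * a * x⁻¹) (Cfsg.Agent.H33.conj_mem_cj ha)
    have e1 : g * x * a * (g * x)⁻¹ = g * (x * a * x⁻¹) * g⁻¹ := by group
    have e2 : y * x * a * (y * x)⁻¹ = y * (x * a * x⁻¹) * y⁻¹ := by group
    rw [e1, e2, h1]

/-- **Control of strong fusion** by `N_G(W(D))`. -/
theorem controlsStrongFusion (hW : GoodFun p W) (P : Sylow p G) {D : Subgroup G}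
    (hD : IsStronglyClosed D (P : Subgroup G)) (hst : IsNormalizerPStable p G)
    (hc : ∀ U : Subgroup G, U ≤ (P : Subgroup G) → U ≠ ⊥ →
      IsPConstrained p ↥(Subgroup.normalizer (U : Set G))) (A : Set G) (hA : A ⊆ (P : Subgroup G)) :
    ControlsStrongFusionOf (Subgroup.normalizer ((rel W D : Subgroup G) : Set G)) (P : Subgroup G) A := by
  refine ⟨hA, fun g hg => ?_⟩
  by_cases hD1 : D = ⊥
  · have h1 : rel W D = ⊥ := le_bot_iff.mp ((rel_le W D).trans hD1.le)
    refine ⟨g, ?_, fun a _ => rfl⟩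
    rw [h1, Subgroup.normalizer_eq_top]
    exact Subgroup.mem_top g
  have hwP : ∀ R : Subgroup G, R ≤ (P : Subgroup G) → R ⊓ D ≠ ⊥ → wFun W D R = rel W (R ⊓ D) := by
    intro R hR hRD
    rw [wFun, dPart_eq hD hR, if_neg hRD]
  obtain ⟨z, hzD, hz1, hzc⟩ := exists_mem_center P hD hD1
  have hfun := isConjugacyFunctor_wFun hW D
  have h := Cfsg.Agent.H33.strong_local_global P {wFun W D}
    (fun w hw => by rw [Set.mem_singleton_iff] at hw; rw [hw]; exact hfun) Set.univ
    (fun T _ _ => by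
      obtain ⟨g, h1, h2⟩ := Cfsg.Agent.H33.domain_fullyNormalized P T
      exact ⟨g, h1, Set.mem_univ _, h2⟩)
    (fun T _ hTP hT1 hsyl => by
      set H := Subgroup.normalizer (T : Set G) with hH
      set R := (P : Subgroup G) ⊓ H with hR
      have hRsyl : Cfsg.Agent.H33.IsSyl p R H := hsyl
      refine ⟨R, inf_le_right, P.isPGroup'.to_le inf_le_left, hRsyl.2.2, ?_⟩
      intro B h hhH hB hhB
      -- the Sylow subgroup of `H`
      let P₁ : Sylow p H := hRsyl.toSylow
      have hP₁ : (P₁ : Subgroup H) = R.subgroupOf H := rfl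
      have hD₁ : IsStronglyClosed (D.subgroupOf H) (P₁ : Subgroup H) := by
        rw [hP₁]
        constructor
        · intro x hx
          exact Subgroup.mem_subgroupOf.mpr ⟨hD.1 (Subgroup.mem_subgroupOf.mp hx), x.2⟩
        · intro x hx y hy
          exact Subgroup.mem_subgroupOf.mpr (hD.2 x (Subgroup.mem_subgroupOf.mp hx) y
            (Subgroup.mem_subgroupOf.mp hy).1)
      have hcH : IsPConstrained p H := hc T hTP hT1
      have hfac := goodFun_factor hW hcH
        (fun V _ hV => isPStableOn_quotient_of_normalizer (isNormalizerPStable_subgroup hst H) V hV)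
        P₁ hD₁
      have hDH : (D.subgroupOf H).map H.subtype = D ⊓ H := Subgroup.subgroupOf_map_subtype _ _
      have hrel : (rel W (D.subgroupOf H)).map H.subtype = rel W (D ⊓ H) := by
        rw [rel_map hW.nat _ (H.subtype_injective.injOn), hDH]
      have hP₁M : (P₁ : Subgroup H) ≤ Subgroup.normalizer ((rel W (D.subgroupOf H) : Subgroup H) : Set H) :=
        (IsStronglyClosed.le_normalizer hD₁).trans (normalizer_le_normalizer_rel hW.nat _)
      obtain ⟨m, hm, hma⟩ := exists_mem_of_factor (pPrimeCore p H)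
        (Cfsg.Agent.Solv.pPrimeCore_card_coprime p) hfac P₁.isPGroup' hP₁M
        (A := {x : H | (x : G) ∈ B})
        (fun x hx => Subgroup.mem_subgroupOf.mpr (hB hx)) (h := ⟨h, hhH⟩)
        (fun x hx => Subgroup.mem_subgroupOf.mpr (hhB ⟨x, hx, rfl⟩))
      refine ⟨1, ![1, (m : G)], rfl, ?_, ?_, ?_⟩
      · intro i
        refine ⟨wFun W D, rfl, ?_⟩
        have hi : i = 0 := Subsingleton.elim _ _
        subst hi
        have e : (![1, (m : G)] : Fin 2 → G) (Fin.succ 0) * ((![1, (m : G)] : Fin 2 → G) (Fin.castSucc 0))⁻¹ = m := by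
          simp
        rw [e]
        refine ⟨m.2, ?_⟩
        have hRD : R ⊓ D = D ⊓ H := by
          rw [hR, inf_assoc, inf_comm H D, ← inf_assoc, inf_eq_right.mpr hD.1]
        have hRD1 : R ⊓ D ≠ ⊥ := by
          intro h0
          apply hz1
          rw [← Subgroup.mem_bot, ← h0]
          refine ⟨⟨hD.1 hzD, ?_⟩, hzD⟩
          rw [hH]
          apply Subgroup.centralizer_le_normalizer
          rw [Subgroup.mem_centralizer_iff]
          intro t ht
          exact (hzc t (hTP ht)).symm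
        rw [hwP R inf_le_left hRD1, hRD, ← hrel]
        apply mem_normalizer_of_conj_mem
        rintro _ ⟨y, hy, rfl⟩
        exact ⟨m * y * m⁻¹, (Subgroup.mem_normalizer_iff.mp hm y).mp hy, rfl⟩
      · intro i
        fin_cases i
        · rintro _ ⟨a, ha, rfl⟩
          simpa using hB ha
        · rintro _ ⟨a, ha, rfl⟩
          have h1 := congrArg Subtype.val (hma ⟨a, (hB ha).2⟩ ha)
          have h2 : (m : G) * a * (m : G)⁻¹ = h * a * h⁻¹ := h1
          show (m : G) * a * (m : G)⁻¹ ∈ R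
          rw [h2]
          exact hhB ⟨a, ha, rfl⟩
      · intro a ha
        have h1 := congrArg Subtype.val (hma ⟨a, (hB ha).2⟩ ha)
        exact h1)
  have hclP : Subgroup.closure A ≤ (P : Subgroup G) := (Subgroup.closure_le _).mpr hA
  have hgcl : Cfsg.Agent.H33.cj g (Subgroup.closure A) ≤ (P : Subgroup G) := by
    rw [Subgroup.map_le_iff_le_comap, Subgroup.closure_le]
    intro a ha
    exact hg ⟨a, ha, rfl⟩
  have h1 := h (Subgroup.closure A) hclP g (Subgroup.mem_top g) hgcl
  have hPD : (P : Subgroup G) ⊓ D = D := inf_eq_right.mpr hD.1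
  obtain ⟨x, hx, hxA⟩ := exists_mem_of_SFc
    (N₀ := Subgroup.normalizer ((rel W D : Subgroup G) : Set G)) (by
      rintro N ⟨w, hw, rfl⟩
      rw [Set.mem_singleton_iff] at hw
      rw [hw, hwP _ le_rfl (by rwa [hPD]), hPD]
      exact inf_le_right) h1
  exact ⟨x, hx, fun a ha => hxA a (Subgroup.subset_closure ha)⟩

end Main

end Cfsg.Agent.H51
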