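import Mathlib
import Cfsg.Prelude.Def_PLocal
import Cfsg.Agent.ZJ.GT
import Cfsg.Agent.ZJ.NPCThm
import Cfsg.Agent.H51.ZJControl

/-!
Glauberman–Thompson normal `p`-complement theorem for strongly closed subgroups.
-/

set_option autoImplicit false

namespace Cfsg.Agent.H51

open Cfsg Subgroup
open Cfsg.Agent.ZJ
open scoped commutatorElement Pointwise

universe u

section Aux

variable {G : Type u} [Group G]

theorem isStronglyClosed_conj {D S : Subgroup G} (hD : IsStronglyClosed D S) (g : G) :
    IsStronglyClosed (D.map (MulAut.conj g).toMonoidHom) (S.map (MulAut.conj g).toMonoidHom) := by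
  refine ⟨Subgroup.map_mono hD.1, ?_⟩
  rintro _ ⟨d, hd, rfl⟩ x hx
  obtain ⟨s, hs, hsx⟩ := hx
  have hsx' : g * s * g⁻¹ = x * (g * d * g⁻¹) * x⁻¹ := hsx
  have e : (g⁻¹ * x * g) * d * (g⁻¹ * x * g)⁻¹ = s := by
    have : s = g⁻¹ * (g * s * g⁻¹) * g := by group
    rw [this, hsx']; group
  have h1 := hD.2 d hd (g⁻¹ * x * g) (by rw [e]; exact hs)
  refine ⟨_, h1, ?_⟩
  show g * (g⁻¹ * x * g * d * (g⁻¹ * x * g)⁻¹) * g⁻¹ = x * (g * d * g⁻¹) * x⁻¹
  group

theorem isStronglyClosed_subgroupOf {D S : Subgroup G} (hD : IsStronglyClosed D S) (N : Subgroup G) :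
    IsStronglyClosed (D.subgroupOf N) (S.subgroupOf N) := by
  refine ⟨fun x hx => mem_subgroupOf.mpr (hD.1 (mem_subgroupOf.mp hx)), ?_⟩
  intro x hx y hy
  exact mem_subgroupOf.mpr (hD.2 x (mem_subgroupOf.mp hx) y (mem_subgroupOf.mp hy))

theorem isStronglyClosed_map_of_le {D S : Subgroup G} (hD : IsStronglyClosed D S) (H : Subgroup G)
    [H.Normal] (hH : H ≤ S) :
    IsStronglyClosed (D.map (QuotientGroup.mk' H)) (S.map (QuotientGroup.mk' H)) := by
  refine ⟨Subgroup.map_mono hD.1, ?_⟩
  rintro _ ⟨d, hd, rfl⟩ y hy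
  obtain ⟨g, rfl⟩ := QuotientGroup.mk'_surjective H y
  rw [← map_inv, ← map_mul, ← map_mul] at hy ⊢
  obtain ⟨s, hs, hsg⟩ := hy
  have h1 : s⁻¹ * (g * d * g⁻¹) ∈ H := by
    rw [← QuotientGroup.eq_one_iff]
    show QuotientGroup.mk' H _ = 1
    rw [map_mul, map_inv, ← hsg, inv_mul_cancel]
  have h2 : g * d * g⁻¹ ∈ S := by
    have : g * d * g⁻¹ = s * (s⁻¹ * (g * d * g⁻¹)) := by group
    rw [this]; exact S.mul_mem hs (hH h1)
  exact ⟨_, hD.2 d hd g h2, rfl⟩

theorem IsStronglyClosed.normal_of_le {D S H : Subgroup G} (hD : IsStronglyClosed D S) [hH : H.Normal]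
    (hHS : H ≤ S) (hDH : D ≤ H) : D.Normal :=
  ⟨fun d hd g => hD.2 d hd g (hHS (hH.conj_mem d (hDH hd) g))⟩

end Aux

/-- **Glauberman–Thompson** for strongly closed subgroups -/
theorem hasNPC_of_stronglyClosed {p : ℕ} [hp : Fact p.Prime] (hp2 : p ≠ 2)
    {W : ∀ (X : Type u) [Group X], Subgroup X} (hW : GoodFun p W) :
    ∀ (G : Type u) [Group G] [Finite G] (P : Sylow p G) (D : Subgroup G),
      IsStronglyClosed D (P : Subgroup G) →
      HasNormalPComplement p (normalizer (rel W D : Set G)) → HasNormalPComplement p G := by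
  intro G
  induction hn : Nat.card G using Nat.strong_induction_on generalizing G with
  | _ n ih =>
  intro _ _ P D hD hDN
  by_contra hG
  have hDp : IsPGroup p D := P.isPGroup'.to_le hD.1
  have hD1 : D ≠ ⊥ := by
    intro h0
    have h1 : rel W D = ⊥ := le_bot_iff.mp ((rel_le W D).trans h0.le)
    rw [h1] at hDN
    exact hG (npc_of_normalizer_top inferInstance hDN)
  -- Step 1: choice of H
  have h1 : ∃ H : Subgroup G, IsPGroup p H ∧ H ≠ ⊥ ∧
      ¬ HasNormalPComplement p (normalizer (H : Set G)) := by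
    by_contra hcon
    push Not at hcon
    exact hG ((Cfsg.Agent.S0072.result p).mpr hcon)
  have hfin : ({H : Subgroup G | IsPGroup p H ∧ H ≠ ⊥ ∧
      ¬ HasNormalPComplement p (normalizer (H : Set G))}).Finite := Set.toFinite _
  obtain ⟨H, ⟨hHp, hH1, hHN⟩, hmax⟩ := hfin.exists_maximalFor
    (fun H : Subgroup G => pval p (normalizer (H : Set G)) * (Nat.card G + 1) + Nat.card H) _ h1
  have hcardle : ∀ K : Subgroup G, Nat.card K ≤ Nat.card G := fun K => Subgroup.card_le_card_group K
  have hmaxf : ∀ K : Subgroup G, IsPGroup p K → K ≠ ⊥ → ¬ HasNormalPComplement p (normalizer (K : Set G)) →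
      pval p (normalizer (K : Set G)) ≤ pval p (normalizer (H : Set G)) := by
    intro K hK1 hK2 hK3
    by_contra hlt
    push Not at hlt
    have h2 : pval p (normalizer (H : Set G)) * (Nat.card G + 1) + Nat.card H <
        pval p (normalizer (K : Set G)) * (Nat.card G + 1) + Nat.card K := by
      have := hcardle H
      nlinarith [Nat.zero_le (Nat.card K)]
    have h3 := hmax (j := K) ⟨hK1, hK2, hK3⟩ h2.le
    exact absurd h3 (not_le.mpr h2)
  have hmaxc : ∀ K : Subgroup G, IsPGroup p K → K ≠ ⊥ → ¬ HasNormalPComplement p (normalizer (K : Set G)) →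
      pval p (normalizer (K : Set G)) = pval p (normalizer (H : Set G)) → Nat.card K ≤ Nat.card H := by
    intro K hK1 hK2 hK3 hK4
    by_contra hlt
    push Not at hlt
    have h2 : pval p (normalizer (H : Set G)) * (Nat.card G + 1) + Nat.card H <
        pval p (normalizer (K : Set G)) * (Nat.card G + 1) + Nat.card K := by
      rw [hK4]; omega
    have h3 := hmax (j := K) ⟨hK1, hK2, hK3⟩ h2.le
    exact absurd h3 (not_le.mpr h2)
  -- Step 2: the normalizer of H is G
  have hHn : H.Normal := by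
    rw [← normalizer_eq_top_iff]
    by_contra hNtop
    set N := normalizer (H : Set G) with hN
    have hNlt : Nat.card N < n := by
      rw [← hn]
      refine lt_of_le_of_ne (hcardle N) (fun heq => hNtop ?_)
      exact Subgroup.eq_top_of_card_eq N heq
    obtain ⟨R⟩ : Nonempty (Sylow p N) := inferInstance
    set R' := (R : Subgroup N).map N.subtype with hR'
    have hR'p : IsPGroup p R' := R.isPGroup'.map _
    have hHR : H ≤ R' := by
      have h2 : H.subgroupOf N ≤ (R : Subgroup N) := by
        have hn' : (H.subgroupOf N).Normal := Subgroup.normal_in_normalizer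
        have hp' : IsPGroup p (H.subgroupOf N) := hHp.comap_subtype
        exact hp'.le_sylow_of_normal R
      intro x hx
      exact ⟨⟨x, le_normalizer hx⟩, h2 hx, rfl⟩
    obtain ⟨P₁, hP₁⟩ := hR'p.exists_le_sylow
    -- conjugate `D` into `P₁`
    obtain ⟨g, hg⟩ := MulAction.exists_smul_eq G P P₁
    have hgP : (P₁ : Subgroup G) = (P : Subgroup G).map (MulAut.conj g).toMonoidHom := by
      rw [← hg]; rfl
    set D₁ := D.map (MulAut.conj g).toMonoidHom with hD₁def
    have hD₁ : IsStronglyClosed D₁ (P₁ : Subgroup G) := by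
      rw [hgP]; exact isStronglyClosed_conj hD g
    have hD₁N : HasNormalPComplement p (normalizer (rel W D₁ : Set G)) := by
      rw [hD₁def, ← rel_conj hW.nat]
      exact npc_normalizer_conj g hDN
    have hD₁1 : D₁ ≠ ⊥ := by
      rw [hD₁def, Ne, Subgroup.map_eq_bot_iff_of_injective _ (MulAut.conj g).injective]
      exact hD1
    have hD₁p : IsPGroup p D₁ := P₁.isPGroup'.to_le hD₁.1
    -- `R = P₁ ∩ N`
    have hRP : (R : Subgroup N) = (P₁ : Subgroup G).subgroupOf N := by
      symm
      apply R.3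
      · exact P₁.isPGroup'.comap_subtype
      · intro x hx
        exact mem_subgroupOf.mpr (hP₁ ⟨x, hx, rfl⟩)
    have hR'P : R' = (P₁ : Subgroup G) ⊓ N := by
      rw [hR', hRP, Subgroup.subgroupOf_map_subtype]
    have hsc : IsStronglyClosed (D₁.subgroupOf N) (R : Subgroup N) := by
      rw [hRP]; exact isStronglyClosed_subgroupOf hD₁ N
    have hR : ¬ HasNormalPComplement p (normalizer (rel W (D₁.subgroupOf N) : Set N)) := by
      intro h2
      exact hHN (ih (Nat.card N) hNlt N rfl R _ hsc h2)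
    set H₁ := rel W (D₁ ⊓ N) with hH₁
    have hH₁p : IsPGroup p H₁ := hD₁p.to_le ((rel_le _ _).trans inf_le_left)
    have hDN1 : D₁ ⊓ N ≠ ⊥ := by
      obtain ⟨z, hz, hz1, hzc⟩ := exists_mem_center P₁ hD₁ hD₁1
      intro h0
      apply hz1
      rw [← Subgroup.mem_bot, ← h0]
      refine ⟨hz, ?_⟩
      rw [hN]
      apply Subgroup.centralizer_le_normalizer
      rw [Subgroup.mem_centralizer_iff]
      intro t ht
      exact (hzc t (hP₁ (hHR ht))).symm
    have hH₁1 : H₁ ≠ ⊥ := rel_ne_bot hW (hD₁p.to_le inf_le_left) hDN1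
    have hH₁eq : (rel W (D₁.subgroupOf N)).map N.subtype = H₁ := by
      rw [rel_map hW.nat _ N.subtype_injective.injOn, Subgroup.subgroupOf_map_subtype]
    have hH₁N : ¬ HasNormalPComplement p (normalizer (H₁ : Set G)) := by
      intro h2
      apply hR
      apply npc_normalizer_subgroup
      rwa [hH₁eq]
    have hDR : D₁ ⊓ N = D₁ ⊓ R' := by
      rw [hR'P, ← inf_assoc, inf_eq_left.mpr hD₁.1]
    have hR'N : normalizer (R' : Set G) ⊓ (P₁ : Subgroup G) ≤ normalizer (H₁ : Set G) := by
      refine le_trans ?_ (normalizer_le_normalizer_rel hW.nat _)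
      rw [hDR]
      rintro x ⟨hx1, hx2⟩
      have hx3 := IsStronglyClosed.le_normalizer hD₁ hx2
      rw [mem_normalizer_iff]
      intro y
      rw [mem_inf, mem_inf]
      exact and_congr (mem_normalizer_iff.mp hx3 y) (mem_normalizer_iff.mp hx1 y)
    have h3 := hmaxf H₁ hH₁p hH₁1 hH₁N
    -- R' is Sylow in G
    have h4 : R' = P₁ := by
      by_contra hne
      have hlt : R' < P₁ := lt_of_le_of_ne hP₁ hne
      have h5 := Cfsg.Agent.Transfer.lt_normalizer_inf_of_isPGroup P₁.isPGroup' hlt
      have h6 : IsPGroup p (normalizer (R' : Set G) ⊓ P₁ : Subgroup G) := P₁.isPGroup'.to_le inf_le_right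
      have h7 := card_le_of_isPGroup h6 hR'N
      have h8 := card_lt_of_lt' h5
      have h9 : Nat.card R' = p ^ pval p N := card_sylow_eq_pval R
      rw [h9] at h8
      have h10 : p ^ pval p (normalizer (H₁ : Set G)) ≤ p ^ pval p N := Nat.pow_le_pow_right hp.out.pos h3
      omega
    apply hH₁N
    have h5 : D₁ ⊓ N = D₁ := by
      rw [hDR, h4]; exact inf_eq_left.mpr hD₁.1
    rw [hH₁, h5]
    exact hD₁N
  have hNtop : normalizer (H : Set G) = ⊤ := normalizer_eq_top_iff.mpr hHn
  rw [hNtop] at hmaxf hmaxc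
  -- Step 3: H is the p-core
  have hmax' : ∀ K : Subgroup G, IsPGroup p K → H < K →
      (∃ P : Sylow p G, (P : Subgroup G) ≤ normalizer (K : Set G)) →
      HasNormalPComplement p (normalizer (K : Set G)) := by
    rintro K hK hlt ⟨P, hP⟩
    by_contra hcon
    have hK1 : K ≠ ⊥ := by
      intro h0; rw [h0] at hlt; exact not_lt_bot hlt
    have h2 := hmaxc K hK hK1 hcon (pval_eq_top_of_sylow_le P hP)
    exact absurd (card_lt_of_lt' hlt) (not_lt.mpr h2)
  have hHcore : pCore p G = H := by
    have hle : H ≤ pCore p G := Cfsg.Agent.Solv.le_pCore hHn hHp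
    by_contra hne
    have hlt : H < pCore p G := lt_of_le_of_ne hle (Ne.symm hne)
    obtain ⟨P⟩ : Nonempty (Sylow p G) := inferInstance
    have h2 := hmax' _ (Cfsg.Agent.Solv.pCore_isPGroup p) hlt ⟨P, by rw [normalizer_eq_top]; exact le_top⟩
    exact hG (npc_of_normalizer_top inferInstance h2)
  have hcardq : ∀ X : Subgroup G, X ≠ ⊥ → X.Normal → Nat.card (G ⧸ X) < n := by
    intro X hX _
    rw [← hn, Subgroup.card_eq_card_quotient_mul_card_subgroup X]
    have h2 : 1 < Nat.card X := by
      have := Nat.card_pos (α := X)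
      have hne : Nat.card X ≠ 1 := fun h => hX (Subgroup.card_eq_one.mp h)
      omega
    have h3 : 0 < Nat.card (G ⧸ X) := Nat.card_pos
    nlinarith
  have hcardq : ∀ X : Subgroup G, X ≠ ⊥ → X.Normal → Nat.card (G ⧸ X) < n := by
    intro X hX _
    rw [← hn, Subgroup.card_eq_card_quotient_mul_card_subgroup X]
    have h2 : 1 < Nat.card X := by
      have := Nat.card_pos (α := X)
      have hne : Nat.card X ≠ 1 := fun h => hX (Subgroup.card_eq_one.mp h)
      omega
    have h3 : 0 < Nat.card (G ⧸ X) := Nat.card_pos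
    nlinarith
  have hHP : H ≤ P := hHp.le_sylow_of_normal P
  -- Step 4: G / H has a normal p-complement
  have hDH : ¬ D ≤ H := by
    intro h0
    have h1 : D.Normal := IsStronglyClosed.normal_of_le hD hHP h0
    have h3 := normalizer_le_normalizer_rel hW.nat D
    rw [normalizer_eq_top_iff.mpr h1, top_le_iff, normalizer_eq_top_iff] at h3
    exact hG (npc_of_normalizer_top h3 hDN)
  have hq : HasNormalPComplement p (G ⧸ H) := by
    set P' : Sylow p (G ⧸ H) := P.mapSurjective (QuotientGroup.mk'_surjective H) with hP'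
    have hP'c : (P' : Subgroup (G ⧸ H)) = (P : Subgroup G).map (QuotientGroup.mk' H) := by
      rw [hP']; exact Sylow.coe_mapSurjective _ _
    set D' := D.map (QuotientGroup.mk' H) with hD'
    have hD'sc : IsStronglyClosed D' (P' : Subgroup (G ⧸ H)) := by
      rw [hP'c]; exact isStronglyClosed_map_of_le hD H hHP
    refine ih _ (hcardq H hH1 hHn) (G ⧸ H) rfl P' D' hD'sc ?_
    have hD'1 : D' ≠ ⊥ := by
      intro h0
      rw [hD', Subgroup.map_eq_bot_iff, QuotientGroup.ker_mk'] at h0
      exact hDH h0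
    have hD'p : IsPGroup p D' := P'.isPGroup'.to_le hD'sc.1
    set K' := rel W D' with hK'
    have hK'1 : K' ≠ ⊥ := rel_ne_bot hW hD'p hD'1
    have hK'p : IsPGroup p K' := hD'p.to_le (rel_le _ _)
    set K := K'.comap (QuotientGroup.mk' H) with hK
    have hKp : IsPGroup p K := by
      apply IsPGroup.comap_of_ker_isPGroup hK'p
      rwa [QuotientGroup.ker_mk']
    have hmapK : K.map (QuotientGroup.mk' H) = K' :=
      Subgroup.map_comap_eq_self_of_surjective (QuotientGroup.mk'_surjective H) K'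
    have hHK : H < K := by
      refine lt_of_le_of_ne ?_ ?_
      · intro x hx
        change QuotientGroup.mk' H x ∈ K'
        have : QuotientGroup.mk' H x = 1 := (QuotientGroup.eq_one_iff x).mpr hx
        rw [this]; exact one_mem _
      · intro heq
        apply hK'1
        rw [← hmapK, ← heq, Subgroup.map_eq_bot_iff, QuotientGroup.ker_mk']
    have hNK : (normalizer (K' : Set (G ⧸ H))).comap (QuotientGroup.mk' H) ≤ normalizer (K : Set G) := by
      intro g hg
      rw [mem_normalizer_iff]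
      intro x
      have h2 := (mem_normalizer_iff.mp (show QuotientGroup.mk' H g ∈ normalizer (K' : Set (G ⧸ H)) from hg)) (QuotientGroup.mk' H x)
      rw [← map_mul, ← map_inv, ← map_mul] at h2
      exact h2
    have hKN : normalizer (K : Set G) ≤ (normalizer (K' : Set (G ⧸ H))).comap (QuotientGroup.mk' H) := by
      intro g hg
      change QuotientGroup.mk' H g ∈ normalizer (K' : Set (G ⧸ H))
      rw [mem_normalizer_iff]
      intro y
      obtain ⟨x, rfl⟩ := QuotientGroup.mk'_surjective H y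
      rw [← map_mul, ← map_inv, ← map_mul]
      exact (mem_normalizer_iff.mp hg) x
    have hPK : ∃ P : Sylow p G, (P : Subgroup G) ≤ normalizer (K : Set G) := by
      refine ⟨P, le_trans ?_ hNK⟩
      rw [← Subgroup.map_le_iff_le_comap, ← hP'c]
      exact (IsStronglyClosed.le_normalizer hD'sc).trans (normalizer_le_normalizer_rel hW.nat _)
    have h2 := hmax' K hKp hHK hPK
    let f : normalizer (K : Set G) →* normalizer (K' : Set (G ⧸ H)) :=
      ((QuotientGroup.mk' H).comp (normalizer (K : Set G)).subtype).codRestrict _ (fun x => hKN x.2)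
    refine Cfsg.Agent.Transfer.HasNPC.of_surjective h2 f ?_
    rintro ⟨y, hy⟩
    obtain ⟨x, rfl⟩ := QuotientGroup.mk'_surjective H y
    exact ⟨⟨x, hNK hy⟩, rfl⟩
  -- Step 5: the p'-core is trivial
  have hcore : pPrimeCore p G = ⊥ := by
    by_contra hX1
    set X := pPrimeCore p G with hXdef
    have hX : (Nat.card X).Coprime p := Cfsg.Agent.Solv.pPrimeCore_card_coprime p
    apply hG
    apply Cfsg.Agent.Transfer.HasNPC.of_quotient X hX
    set P' : Sylow p (G ⧸ X) := P.mapSurjective (QuotientGroup.mk'_surjective X) with hP'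
    have hP'c : (P' : Subgroup (G ⧸ X)) = (P : Subgroup G).map (QuotientGroup.mk' X) := by
      rw [hP']; exact Sylow.coe_mapSurjective _ _
    set D' := D.map (QuotientGroup.mk' X) with hD'
    have hD'sc : IsStronglyClosed D' (P' : Subgroup (G ⧸ X)) := by
      rw [hP'c]; exact isStronglyClosed_map X hX P hD
    refine ih _ (hcardq X hX1 inferInstance) (G ⧸ X) rfl P' D' hD'sc ?_
    have hrel : rel W D' = (rel W D).map (QuotientGroup.mk' X) := by
      rw [hD', rel_map hW.nat _ (injOn_mk'_of_coprime X hX hDp)]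
    rw [hrel]
    have hrelp : IsPGroup p (rel W D) := hDp.to_le (rel_le _ _)
    let f : normalizer (rel W D : Set G) →*
        normalizer (((rel W D).map (QuotientGroup.mk' X) : Subgroup (G ⧸ X)) : Set (G ⧸ X)) :=
      ((QuotientGroup.mk' X).comp (normalizer (rel W D : Set G)).subtype).codRestrict _
        (by
          rintro ⟨x, hx⟩
          change QuotientGroup.mk' X x ∈ _
          apply Cfsg.Agent.ZJ.mem_normalizer_of_conj_mem
          rintro _ ⟨d, hd, rfl⟩
          rw [← map_mul, ← map_inv, ← map_mul]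
          exact ⟨_, conj_mem_of_mem_normalizer hx hd, rfl⟩)
    refine Cfsg.Agent.Transfer.HasNPC.of_surjective hDN f ?_
    rintro ⟨y, hy⟩
    obtain ⟨g, hg, hgy⟩ := exists_lift_normalizer' X hX hrelp hy
    exact ⟨⟨g, hg⟩, Subtype.ext hgy⟩
  -- Step 6: the subgroup M
  obtain ⟨M', hM'n, hM'1, k', hM'2⟩ := Cfsg.Agent.Transfer.hasNPC_iff_exists.mp hq
  set M := M'.comap (QuotientGroup.mk' H) with hM
  have hMn : M.Normal := inferInstance
  have hHM : H ≤ M := by
    intro x hx
    change QuotientGroup.mk' H x ∈ M'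
    have : QuotientGroup.mk' H x = 1 := (QuotientGroup.eq_one_iff x).mpr hx
    rw [this]; exact one_mem _
  have hMidx : M.index = p ^ k' := by
    rw [hM, Subgroup.index_comap_of_surjective _ (QuotientGroup.mk'_surjective H), hM'2]
  have hmapM : M.map (QuotientGroup.mk' H) = M' :=
    Subgroup.map_comap_eq_self_of_surjective (QuotientGroup.mk'_surjective H) M'
  have hHrel : H.relIndex M = Nat.card M' := by
    rw [← Subgroup.relIndex_bot_left M', ← hmapM]
    have : (⊥ : Subgroup (G ⧸ H)) = H.map (QuotientGroup.mk' H) := by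
      rw [eq_comm, Subgroup.map_eq_bot_iff, QuotientGroup.ker_mk']
    rw [this, Subgroup.relIndex_map_map, QuotientGroup.ker_mk', sup_idem, sup_eq_left.mpr hHM]
  have hsolv : IsPSolvable p G := isPSolvable_of_chain hHn hMn hHM hHp (by rwa [hHrel]) ⟨k', hMidx⟩
  have hc : centralizer (pCore p G : Set G) ≤ pCore p G := Cfsg.Agent.H76.centralizer_pCore_le hsolv hcore
  have hPtop : (P : Subgroup G) ≠ ⊤ := by
    intro h2
    apply hG
    apply Cfsg.Agent.Transfer.hasNPC_of_isPGroup
    have := P.isPGroup'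
    rw [h2] at this
    intro x
    obtain ⟨k, hk⟩ := this ⟨x, mem_top x⟩
    exact ⟨k, congrArg Subtype.val hk⟩
  -- Step 7: P is maximal
  have hmaxP : ∀ K : Subgroup G, (P : Subgroup G) ≤ K → K = P ∨ K = ⊤ := by
    intro K hPK
    by_cases hKtop : K = ⊤
    · exact Or.inr hKtop
    left
    have hKlt : Nat.card K < n := by
      rw [← hn]
      refine lt_of_le_of_ne (hcardle K) (fun heq => hKtop ?_)
      exact Subgroup.eq_top_of_card_eq K heq
    have hKnpc : HasNormalPComplement p K := by
      refine ih _ hKlt K rfl (P.subtype hPK) (D.subgroupOf K) ?_ ?_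
      · exact isStronglyClosed_subgroupOf hD K
      · apply npc_normalizer_subgroup
        rw [rel_map hW.nat _ K.subtype_injective.injOn, Subgroup.subgroupOf_map_subtype,
          inf_eq_left.mpr (hD.1.trans hPK)]
        exact hDN
    apply P.3 _ hPK
    apply isPGroup_of_forall_coprime
    intro x hx hxo
    have hHK : H ≤ K := hHP.trans hPK
    have hHKn : (H.subgroupOf K).Normal := inferInstance
    have hHKp : IsPGroup p (H.subgroupOf K) := hHp.comap_subtype
    have h2 := Cfsg.Agent.Transfer.HasNPC.mem_centralizer (Q := H.subgroupOf K) (g := (⟨x, hx⟩ : K)) hKnpc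
      hHKp (by rw [normalizer_eq_top_iff.mpr hHKn]; trivial)
      (by simpa [← Subgroup.orderOf_coe] using hxo)
    have h3 : x ∈ centralizer (H : Set G) := by
      rw [mem_centralizer_iff] at h2 ⊢
      intro y hy
      exact congrArg Subtype.val (h2 ⟨y, hHK hy⟩ hy)
    rw [← hHcore] at h3
    have h4 : x ∈ H := by rw [← hHcore]; exact hc h3
    obtain ⟨k, hk⟩ := hHp ⟨x, h4⟩
    have hk' : x ^ p ^ k = 1 := congrArg Subtype.val hk
    rw [← orderOf_eq_one_iff]
    exact Nat.eq_one_of_dvd_coprimes (hxo.pow_right k) dvd_rfl (orderOf_dvd_of_pow_eq_one hk')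
  -- Step 8: structure of M / H
  set P' : Sylow p (G ⧸ H) := P.mapSurjective (QuotientGroup.mk'_surjective H) with hP'
  have hP'c : (P' : Subgroup (G ⧸ H)) = (P : Subgroup G).map (QuotientGroup.mk' H) := by
    rw [hP']; exact Sylow.coe_mapSurjective _ _
  have hmaxP' : ∀ K : Subgroup (G ⧸ H), (P' : Subgroup (G ⧸ H)) ≤ K → K = P' ∨ K = ⊤ := by
    intro K hK
    have h2 : (P : Subgroup G) ≤ K.comap (QuotientGroup.mk' H) := by
      rw [← Subgroup.map_le_iff_le_comap, ← hP'c]; exact hK
    rcases hmaxP _ h2 with h3 | h3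
    · left
      rw [hP'c, ← h3, Subgroup.map_comap_eq_self_of_surjective (QuotientGroup.mk'_surjective H)]
    · right
      rw [← Subgroup.map_comap_eq_self_of_surjective (QuotientGroup.mk'_surjective H) K, h3,
        Subgroup.map_top_of_surjective _ (QuotientGroup.mk'_surjective H)]
  have hM'1' : Nat.card M' ≠ 1 := by
    intro h2
    apply hG
    apply Cfsg.Agent.Transfer.hasNPC_of_isPGroup
    have h3 : M' = ⊥ := Subgroup.card_eq_one.mp h2
    have h4 : H.relIndex M = 1 := by rw [hHrel, h2]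
    have h5 : M = H := le_antisymm (Subgroup.relIndex_eq_one.mp h4) hHM
    obtain ⟨j, hj⟩ := IsPGroup.iff_card.mp hHp
    apply IsPGroup.of_card (n := j + k')
    rw [← M.card_mul_index, h5, hj, ← h5, hMidx, pow_add]
  have hinf : ∀ D : Subgroup (G ⧸ H), D ≤ M' → D ≤ P' → D = ⊥ := by
    intro D h2 h3
    have h4 : D ≤ M' ⊓ P' := le_inf h2 h3
    rw [inf_eq_bot_of_coprime hM'1 P'.isPGroup'] at h4
    exact le_bot_iff.mp h4
  have hcardM' : Nat.card M' * Nat.card (P' : Subgroup (G ⧸ H)) = Nat.card (G ⧸ H) := by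
    have h2 := (Cfsg.Agent.Transfer.isComplement'_of_card_of_index hM'1 hM'2 P').card_mul_card
    exact h2
  -- the general fact: a proper P'-invariant subgroup of M' is trivial
  have hinv : ∀ D : Subgroup (G ⧸ H), D ≤ M' → (P' : Subgroup (G ⧸ H)) ≤ normalizer (D : Set (G ⧸ H)) →
      D = ⊥ ∨ D = M' := by
    intro D h2 h3
    rcases hmaxP' (P' ⊔ D) le_sup_left with h4 | h4
    · left
      exact hinf D h2 (by rw [← h4]; exact le_sup_right)
    · right
      apply Subgroup.eq_of_le_of_card_ge h2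
      have h5 : Nat.card (P' ⊔ D : Subgroup (G ⧸ H)) ≤ Nat.card (P' : Subgroup (G ⧸ H)) * Nat.card D := by
        have h6 : ((P' : Subgroup (G ⧸ H)) : Set (G ⧸ H)) * (D : Set (G ⧸ H)) =
            ((P' ⊔ D : Subgroup (G ⧸ H)) : Set (G ⧸ H)) := by
          rw [Subgroup.coe_mul_of_left_le_normalizer_right _ _ h3]
        have h7 : Nat.card (P' ⊔ D : Subgroup (G ⧸ H)) =
            Nat.card (((P' : Subgroup (G ⧸ H)) : Set (G ⧸ H)) * (D : Set (G ⧸ H)) : Set (G ⧸ H)) := by
          rw [h6]; rfl
        rw [h7]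
        exact Set.natCard_mul_le
      rw [h4, Subgroup.card_top, ← hcardM'] at h5
      have h6 : 0 < Nat.card (P' : Subgroup (G ⧸ H)) := Nat.card_pos
      nlinarith
  -- M' is a q-group
  obtain ⟨q, hqp, hqd⟩ := Nat.exists_prime_and_dvd hM'1'
  have hqf : Fact q.Prime := ⟨hqp⟩
  obtain ⟨Q, hQM, hQq, hQcard, hQN⟩ := exists_invariant_sylow (q := q) P' hM'1
  have hM'q : IsPGroup q M' := by
    rcases hinv Q hQM hQN with h2 | h2
    · exfalso
      rw [h2, Subgroup.card_bot] at hQcard
      have h3 : (Nat.card M').factorization q ≠ 0 := by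
        have := hqp.factorization_pos_of_dvd Nat.card_pos.ne' hqd
        omega
      have := Nat.one_lt_pow h3 hqp.one_lt
      omega
    · rw [← h2]; exact hQq
  have hM'ne : M' ≠ ⊥ := by
    intro h2; apply hM'1'; rw [h2, Subgroup.card_bot]
  have hM'ab : ⁅M', M'⁆ = ⊥ := by
    have hlt := commutator_lt_of_isPGroup hM'q hM'ne
    have hn2 : (⁅M', M'⁆).Normal := inferInstance
    rcases hinv ⁅M', M'⁆ hlt.le (by rw [normalizer_eq_top_iff.mpr hn2]; exact le_top) with h2 | h2
    · exact h2
    · exact absurd h2 hlt.ne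
  -- conclusion
  have hspec : IsSpecialNPC P M := by
    refine ⟨hMn, hc, ?_, ⟨Nat.card M', hM'1, ?_⟩, ?_, (by rw [hHcore]; exact hHM),
      (by rw [hHcore, hHrel]; exact hM'1), hPtop, hmaxP⟩
    · rw [hHcore]
      have h2 : (⁅M, M⁆).map (QuotientGroup.mk' H) = ⊥ := by
        rw [map_commutator, hmapM, hM'ab]
      rw [Subgroup.map_eq_bot_iff, QuotientGroup.ker_mk'] at h2
      exact h2
    · intro x hx
      rw [hHcore, ← QuotientGroup.eq_one_iff]
      have h2 : (⟨QuotientGroup.mk' H x, hx⟩ : M') ^ Nat.card M' = 1 := pow_card_eq_one'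
      have h3 := congrArg Subtype.val h2
      exact h3
    · intro g
      refine ⟨k', ?_⟩
      have h2 : (QuotientGroup.mk' M g) ^ Nat.card (G ⧸ M) = 1 := pow_card_eq_one'
      rw [← Subgroup.index_eq_card, hMidx, ← map_pow] at h2
      exact (QuotientGroup.eq_one_iff _).mp h2
  have hnorm : (rel W D).Normal := hW.zj G P D hD hc (fun V _ hV => hspec.stable hp2 V hV)
  exact hG (npc_of_normalizer_top hnorm hDN)

end Cfsg.Agent.H51
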