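import Mathlib
import Cfsg.Agent.SigF.Factor
import Cfsg.Agent.Transfer.Residual

/-!
Minimal noncentral sections, and their commutator forms.
-/

set_option autoImplicit false

namespace Cfsg.Agent.H51

open scoped commutatorElement

/-- The commutator form of a group of class two. -/
theorem exists_form {L : Type*} [Group L] {V Z : Type*} [AddCommGroup V] [AddCommGroup Z] (Y Zs : Subgroup L)
    (π : Y →* Multiplicative V) (hπ : Function.Surjective π) (ζ : Zs →* Multiplicative Z)
    (hker : ∀ u : Y, π u = 1 → ∀ y : Y, (u : L) * y = y * u)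
    (hZ : ∀ y y' : Y, ⁅(y : L), (y' : L)⁆ ∈ Zs) (hZc : ∀ z ∈ Zs, ∀ y ∈ Y, z * y = y * z) :
    ∃ f : V →+ V →+ Z, ∀ y y' : Y, f (Multiplicative.toAdd (π y)) (Multiplicative.toAdd (π y')) =
      Multiplicative.toAdd (ζ ⟨⁅(y : L), (y' : L)⁆, hZ y y'⟩) := by
  set F : Y → Y → Z := fun y y' => Multiplicative.toAdd (ζ ⟨⁅(y : L), (y' : L)⁆, hZ y y'⟩) with hF
  have hone : ∀ z : Zs, (z : L) = 1 → Multiplicative.toAdd (ζ z) = 0 := by
    intro z hz
    have : z = 1 := Subtype.ext hz
    rw [this, map_one, toAdd_one]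
  have hFl : ∀ a b c : Y, F (a * b) c = F a c + F b c := by
    intro a b c
    have h1 : ⁅((a * b : Y) : L), (c : L)⁆ = ⁅(b : L), (c : L)⁆ * ⁅(a : L), (c : L)⁆ := by
      have h2 : (a : L) * ⁅(b : L), (c : L)⁆ = ⁅(b : L), (c : L)⁆ * a := (hZc _ (hZ b c) a a.2).symm
      have h3 : ⁅((a * b : Y) : L), (c : L)⁆ = (a * ⁅(b : L), (c : L)⁆) * (a : L)⁻¹ * ⁅(a : L), (c : L)⁆ := by
        rw [Subgroup.coe_mul, commutatorElement_def, commutatorElement_def, commutatorElement_def]; group
      rw [h3, h2]; group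
    have h2 : (⟨⁅((a * b : Y) : L), (c : L)⁆, hZ (a * b) c⟩ : Zs) =
        ⟨⁅(b : L), (c : L)⁆, hZ b c⟩ * ⟨⁅(a : L), (c : L)⁆, hZ a c⟩ := Subtype.ext h1
    rw [hF]
    dsimp only
    rw [h2, map_mul, toAdd_mul, add_comm]
  have hFr : ∀ a b c : Y, F a (b * c) = F a b + F a c := by
    intro a b c
    have h1 : ⁅(a : L), ((b * c : Y) : L)⁆ = ⁅(a : L), (b : L)⁆ * ⁅(a : L), (c : L)⁆ := by
      have h2 : (b : L) * ⁅(a : L), (c : L)⁆ = ⁅(a : L), (c : L)⁆ * b := (hZc _ (hZ a c) b b.2).symm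
      have h3 : ⁅(a : L), ((b * c : Y) : L)⁆ = ⁅(a : L), (b : L)⁆ * (b * ⁅(a : L), (c : L)⁆) * (b : L)⁻¹ := by
        rw [Subgroup.coe_mul, commutatorElement_def, commutatorElement_def, commutatorElement_def]; group
      rw [h3, h2]; group
    have h2 : (⟨⁅(a : L), ((b * c : Y) : L)⁆, hZ a (b * c)⟩ : Zs) =
        ⟨⁅(a : L), (b : L)⁆, hZ a b⟩ * ⟨⁅(a : L), (c : L)⁆, hZ a c⟩ := Subtype.ext h1
    rw [hF]
    dsimp only
    rw [h2, map_mul, toAdd_mul]
  have hul : ∀ u y : Y, π u = 1 → F u y = 0 := by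
    intro u y hu
    apply hone
    exact commutatorElement_eq_one_iff_mul_comm.mpr (hker u hu y)
  have hur : ∀ u y : Y, π u = 1 → F y u = 0 := by
    intro u y hu
    apply hone
    exact commutatorElement_eq_one_iff_mul_comm.mpr (hker u hu y).symm
  have hwl : ∀ a b c : Y, π a = π b → F a c = F b c := by
    intro a b c h
    have h1 : a = b * (b⁻¹ * a) := by group
    rw [h1, hFl, hul (b⁻¹ * a) c (by rw [map_mul, map_inv, h, inv_mul_cancel]), add_zero]
  have hwr : ∀ a b c : Y, π a = π b → F c a = F c b := by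
    intro a b c h
    have h1 : a = b * (b⁻¹ * a) := by group
    rw [h1, hFr, hur (b⁻¹ * a) c (by rw [map_mul, map_inv, h, inv_mul_cancel]), add_zero]
  choose s hs using hπ
  refine ⟨AddMonoidHom.mk' (fun u => AddMonoidHom.mk' (fun v => F (s (Multiplicative.ofAdd u)) (s (Multiplicative.ofAdd v))) ?_) ?_, ?_⟩
  · intro v v'
    rw [← hFr]
    apply hwr
    rw [hs, map_mul, hs, hs]
    rfl
  · intro u u'
    ext v
    simp only [AddMonoidHom.mk'_apply, AddMonoidHom.add_apply]
    rw [← hFl]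
    apply hwl
    rw [hs, map_mul, hs, hs]
    rfl
  · intro y y'
    simp only [AddMonoidHom.mk'_apply]
    rw [ofAdd_toAdd, ofAdd_toAdd]
    change F _ _ = F y y'
    rw [hwl _ y _ (hs _), hwr _ y' _ (hs _)]

section Minimal

variable {L : Type*} [Group L] [Finite L]

/-- a minimal normal subgroup of `E` not centralized by `K` -/
theorem exists_minimal_noncentral {E K : Subgroup L} [E.Normal] (h : ¬ E ≤ Subgroup.centralizer (K : Set L)) :
    ∃ Y : Subgroup L, Y.Normal ∧ Y ≤ E ∧ ¬ Y ≤ Subgroup.centralizer (K : Set L) ∧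
      ∀ N : Subgroup L, N.Normal → N ≤ Y → N ≠ Y → N ≤ Subgroup.centralizer (K : Set L) := by
  have hfin : {Y : Subgroup L | Y.Normal ∧ Y ≤ E ∧ ¬ Y ≤ Subgroup.centralizer (K : Set L)}.Finite :=
    Set.toFinite _
  obtain ⟨Y, ⟨h1, h2, h3⟩, hmin⟩ := hfin.exists_minimal ⟨E, inferInstance, le_rfl, h⟩
  refine ⟨Y, h1, h2, h3, fun N hN hNY hne => ?_⟩
  by_contra hcon
  exact hne (le_antisymm hNY (hmin ⟨hN, hNY.trans h2, hcon⟩ hNY))

/-- if `[y, k]` is a `p`-element commuting with the `p'`-element `k`, then it is trivial -/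
theorem commutator_eq_one_of_commute {p : ℕ} {y k : L} (hk : (orderOf k).Coprime p)
    (hyk : ∃ j, orderOf ⁅y, k⁆ = p ^ j) (hc : Commute ⁅y, k⁆ k) : ⁅y, k⁆ = 1 := by
  obtain ⟨j, hj⟩ := hyk
  have h1 : y * k * y⁻¹ = ⁅y, k⁆ * k := by rw [commutatorElement_def]; group
  have hcop : (orderOf ⁅y, k⁆).Coprime (orderOf k) := by
    rw [hj]; exact (hk.symm).pow_left j
  have h2 := hc.orderOf_mul_eq_mul_orderOf_of_coprime hcop
  rw [← h1] at h2
  have h3 : orderOf (y * k * y⁻¹) = orderOf k := MulEquiv.orderOf_eq (MulAut.conj y) k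
  rw [h3] at h2
  have hpos : 0 < orderOf k := orderOf_pos k
  have h4 : orderOf ⁅y, k⁆ = 1 := Nat.eq_of_mul_eq_mul_right hpos (by rw [one_mul]; exact h2.symm)
  exact orderOf_eq_one_iff.mp h4

/-- the subgroup generated by the `p'`-elements of `K` -/
def opSub (p : ℕ) (K : Subgroup L) : Subgroup L := Subgroup.closure {k | k ∈ K ∧ (orderOf k).Coprime p}

omit [Finite L] in
theorem opSub_le (p : ℕ) (K : Subgroup L) : opSub p K ≤ K := by
  rw [opSub, Subgroup.closure_le]
  exact fun x hx => hx.1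

omit [Finite L] in
theorem mem_opSub {p : ℕ} {K : Subgroup L} {k : L} (hk : k ∈ K) (hkp : (orderOf k).Coprime p) :
    k ∈ opSub p K := Subgroup.subset_closure ⟨hk, hkp⟩

instance opSub_normal (p : ℕ) (K : Subgroup L) [hK : K.Normal] : (opSub p K).Normal := by
  refine ⟨fun n hn g => ?_⟩
  induction hn using Subgroup.closure_induction with
  | mem x hx =>
    refine mem_opSub (hK.conj_mem _ hx.1 g) ?_
    have h3 : orderOf (g * x * g⁻¹) = orderOf x := MulEquiv.orderOf_eq (MulAut.conj g) x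
    rw [h3]; exact hx.2
  | one => simp
  | mul x y _ _ hx hy =>
    have e : g * (x * y) * g⁻¹ = (g * x * g⁻¹) * (g * y * g⁻¹) := by group
    rw [e]; exact Subgroup.mul_mem _ hx hy
  | inv x _ hx =>
    have e : g * x⁻¹ * g⁻¹ = (g * x * g⁻¹)⁻¹ := by group
    rw [e]; exact Subgroup.inv_mem _ hx

/-- elements centralizing `p'`-elements -/
theorem le_centralizer_opSub {p : ℕ} {K Y : Subgroup L}
    (h : ∀ y ∈ Y, ∀ k ∈ K, (orderOf k).Coprime p → ⁅y, k⁆ = 1) :
    Y ≤ Subgroup.centralizer (opSub p K : Set L) := by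
  intro y hy
  rw [Subgroup.mem_centralizer_iff]
  intro k hk
  induction hk using Subgroup.closure_induction with
  | mem x hx => exact (commutatorElement_eq_one_iff_mul_comm.mp (h y hy x hx.1 hx.2)).symm
  | one => simp
  | mul a b _ _ ha hb => rw [mul_assoc, hb, ← mul_assoc, ha, mul_assoc]
  | inv a _ ha =>
    rw [inv_mul_eq_iff_eq_mul, ← mul_assoc, ha, mul_assoc, mul_inv_cancel, mul_one]
  
structure IsMinSec (p : ℕ) (E K Y U : Subgroup L) : Prop where
  normal : Y.Normal
  le : Y ≤ E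
  nU : U.Normal
  lU : U ≤ Y
  ne : U ≠ Y
  comm : ⁅Y, opSub p K⁆ = Y
  cen : ∀ u ∈ U, ∀ y ∈ Y, u * y = y * u
  YE : ⁅Y, E⁆ ≤ U
  pow : ∀ y ∈ Y, y ^ p ∈ U
  EZ : ∀ e ∈ E, ∀ z ∈ ⁅Y, Y⁆, e * z = z * e

theorem exists_minSec {p : ℕ} [hp : Fact p.Prime] {E K : Subgroup L} [hE : E.Normal] [hK : K.Normal]
    (hEp : IsPGroup p E) (h : ¬ E ≤ Subgroup.centralizer (opSub p K : Set L)) :
    ∃ Y U : Subgroup L, IsMinSec p E K Y U := by
  obtain ⟨Y, hY, hYE, hYK, hmin⟩ := exists_minimal_noncentral h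
  set K₀ := opSub p K with hK₀
  set C := Subgroup.centralizer (K₀ : Set L) with hC
  have hCn : C.Normal := inferInstance
  set U := Y ⊓ C with hU
  have hUn : U.Normal := inferInstance
  have hYp : IsPGroup p Y := hEp.to_le hYE
  have hcomm : ⁅Y, K₀⁆ = Y := by
    by_contra hne
    have h1 := hmin ⁅Y, K₀⁆ inferInstance (Subgroup.commutator_le_left Y K₀) hne
    apply hYK
    apply le_centralizer_opSub
    intro y hy k hk hkp
    have h2 : ⁅y, k⁆ ∈ ⁅Y, K₀⁆ := Subgroup.commutator_mem_commutator hy (mem_opSub hk hkp)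
    apply commutator_eq_one_of_commute hkp
    · have h3 : ⁅y, k⁆ ∈ Y := Subgroup.commutator_le_left Y K₀ h2
      obtain ⟨j, hj⟩ := (IsPGroup.iff_orderOf.mp hYp) ⟨_, h3⟩
      exact ⟨j, by rw [← hj]; exact (Subgroup.orderOf_mk _ _).symm⟩
    · exact (Subgroup.mem_centralizer_iff.mp (h1 h2) k (mem_opSub hk hkp)).symm
  have hYK₀ : Y ≤ K₀ := by
    rw [← hcomm]
    exact Subgroup.commutator_le_right Y K₀
  have hUY : ∀ N : Subgroup L, N.Normal → N ≤ Y → N ≠ Y → N ≤ U := fun N hN hNY hne =>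
    le_inf hNY (hmin N hN hNY hne)
  have hUne : U ≠ Y := by
    intro h1
    apply hYK
    rw [← h1]
    exact inf_le_right
  have hcen : ∀ u ∈ U, ∀ y ∈ Y, u * y = y * u := by
    intro u hu y hy
    exact (Subgroup.mem_centralizer_iff.mp hu.2 y (hYK₀ hy)).symm
  have hYbot : Y ≠ ⊥ := by
    intro h1
    apply hYK
    rw [h1]; exact bot_le
  have hYE' : ⁅Y, E⁆ ≤ U := by
    have hnil : Group.IsNilpotent E := hEp.isNilpotent
    have h1 := Cfsg.Agent.SigF.commutator_lt_of_nilpotent hnil hYE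
      (by rw [Subgroup.normalizer_eq_top_iff.mpr hY]; exact le_top) hYbot
    exact hUY _ inferInstance h1.le h1.ne
  refine ⟨Y, U, hY, hYE, hUn, inf_le_left, hUne, hcomm, hcen, hYE', ?_, ?_⟩
  · -- powers
    have hYY : ∀ a ∈ Y, ∀ b ∈ Y, ⁅a, b⁆ ∈ U := fun a ha b hb =>
      hYE' (Subgroup.commutator_mem_commutator ha (hYE hb))
    set N : Subgroup L := U ⊔ Subgroup.closure {x | ∃ y ∈ Y, x = y ^ p} with hN
    have hNn : N.Normal := by
      have h1 : (Subgroup.closure {x | ∃ y ∈ Y, x = y ^ p}).Normal := by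
        refine ⟨fun n hn g => ?_⟩
        induction hn using Subgroup.closure_induction with
        | mem x hx =>
          obtain ⟨y, hy, rfl⟩ := hx
          refine Subgroup.subset_closure ⟨g * y * g⁻¹, hY.conj_mem _ hy g, ?_⟩
          exact conj_pow.symm
        | one => simp
        | mul x y _ _ hx hy =>
          have e : g * (x * y) * g⁻¹ = (g * x * g⁻¹) * (g * y * g⁻¹) := by group
          rw [e]; exact Subgroup.mul_mem _ hx hy
        | inv x _ hx =>
          have e : g * x⁻¹ * g⁻¹ = (g * x * g⁻¹)⁻¹ := by group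
          rw [e]; exact Subgroup.inv_mem _ hx
      exact inferInstance
    have hNY : N ≤ Y := by
      refine sup_le inf_le_left ?_
      rw [Subgroup.closure_le]
      rintro _ ⟨y, hy, rfl⟩
      exact Y.pow_mem hy p
    by_cases hNe : N = Y
    · exfalso
      -- the `p`-power map on `Y / U` is onto
      let Q := Y ⧸ U.subgroupOf Y
      have hQc : ∀ a b : Q, a * b = b * a := by
        intro a b
        obtain ⟨a, rfl⟩ := QuotientGroup.mk_surjective a
        obtain ⟨b, rfl⟩ := QuotientGroup.mk_surjective b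
        rw [← QuotientGroup.mk_mul, ← QuotientGroup.mk_mul, QuotientGroup.eq, Subgroup.mem_subgroupOf]
        have h1 := hYY (b : L)⁻¹ (Y.inv_mem b.2) (a : L)⁻¹ (Y.inv_mem a.2)
        have e : (((a * b)⁻¹ * (b * a) : Y) : L) = ⁅(b : L)⁻¹, (a : L)⁻¹⁆ := by
          rw [commutatorElement_def]
          push_cast
          group
        rw [e]; exact h1
      have hsurj : ∀ q : Q, ∃ r : Q, r ^ p = q := by
        let pw : Q →* Q :=
          { toFun := fun q => q ^ p
            map_one' := one_pow p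
            map_mul' := fun a b => (show Commute a b from hQc a b).mul_pow p }
        have h1 : N ≤ (pw.range.comap (QuotientGroup.mk' (U.subgroupOf Y))).map Y.subtype := by
          rw [hN]
          refine sup_le ?_ ?_
          · intro u hu
            refine ⟨⟨u, hu.1⟩, ?_, rfl⟩
            have h2 : QuotientGroup.mk' (U.subgroupOf Y) ⟨u, hu.1⟩ = 1 := by
              rw [QuotientGroup.mk'_apply, QuotientGroup.eq_one_iff, Subgroup.mem_subgroupOf]
              exact hu
            change QuotientGroup.mk' (U.subgroupOf Y) ⟨u, hu.1⟩ ∈ pw.range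
            rw [h2]; exact Subgroup.one_mem _
          · rw [Subgroup.closure_le]
            rintro _ ⟨y, hy, rfl⟩
            exact ⟨⟨y, hy⟩ ^ p, ⟨((⟨y, hy⟩ : Y) : Q), rfl⟩, rfl⟩
        intro q
        obtain ⟨y, rfl⟩ := QuotientGroup.mk_surjective q
        have h2 : (y : L) ∈ N := by rw [hNe]; exact y.2
        obtain ⟨y', hy', hyy⟩ := h1 h2
        have h3 : y' = y := Subtype.ext hyy
        subst h3
        exact hy'
      have hinj : Function.Injective (fun q : Q => q ^ p) :=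
        Finite.injective_iff_surjective.mpr hsurj
      have hQp : IsPGroup p Q := hYp.to_quotient _
      have hQnt : Nontrivial Q := by
        by_contra hsub
        rw [not_nontrivial_iff_subsingleton] at hsub
        apply hUne
        apply le_antisymm inf_le_left
        intro y hy
        have h2 : ((⟨y, hy⟩ : Y) : Q) = 1 := Subsingleton.elim _ _
        rw [QuotientGroup.eq_one_iff, Subgroup.mem_subgroupOf] at h2
        exact h2
      obtain ⟨q, hq⟩ := exists_ne (1 : Q)
      obtain ⟨k, hk⟩ := hQp q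
      have h3 : ∀ k : ℕ, ∀ q : Q, q ^ p ^ k = 1 → q = 1 := by
        intro k
        induction k with
        | zero => intro q hq; simpa using hq
        | succ k ih =>
          intro q hq
          rw [pow_succ, pow_mul] at hq
          have h4 : (q ^ p ^ k) ^ p = (1 : Q) ^ p := by rw [hq, one_pow]
          exact ih q (hinj h4)
      exact hq (h3 k q hk)
    · intro y hy
      exact hUY N hNn hNY hNe (Subgroup.mem_sup_right (Subgroup.subset_closure ⟨y, hy, rfl⟩))
  · -- three subgroups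
    have h1 : ⁅⁅Y, E⁆, Y⁆ = ⊥ := by
      rw [eq_bot_iff, Subgroup.commutator_le]
      intro u hu y hy
      rw [Subgroup.mem_bot, commutatorElement_eq_one_iff_mul_comm]
      exact hcen u (hYE' hu) y hy
    have h2 : ⁅⁅E, Y⁆, Y⁆ = ⊥ := by rw [Subgroup.commutator_comm E Y]; exact h1
    have h3 := Subgroup.commutator_commutator_eq_bot_of_rotate h1 h2
    intro e he z hz
    have h4 : ⁅z, e⁆ = 1 := by
      rw [← Subgroup.mem_bot, ← h3]
      exact Subgroup.commutator_mem_commutator hz he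
    exact (commutatorElement_eq_one_iff_mul_comm.mp h4).symm

end Minimal

end Cfsg.Agent.H51
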