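import Mathlib
import Cfsg.Prelude.Def_PLocal
import Cfsg.Agent.ZJ.GTAux
import Cfsg.Agent.H51.GTClosed
import Cfsg.Agent.H51.DStarThm
import Cfsg.Agent.H51.MinSec
import Cfsg.Agent.H23.PGroupNormal

/-!
A Frobenius normal `p`-complement criterion relative to a strongly closed subgroup.
-/

set_option autoImplicit false

namespace Cfsg.Agent.H51.SCFrob

open Cfsg Subgroup
open Cfsg.Agent.ZJ
open scoped commutatorElement Pointwise

universe u

section Aux

variable {G : Type u} [Group G]

theorem mem_normalizer_of_le [Finite G] {H : Subgroup G} {x : G}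
    (h : ∀ y ∈ H, x * y * x⁻¹ ∈ H) : x ∈ normalizer (H : Set G) := by
  apply mem_normalizer_of_map_conj_eq
  apply Subgroup.eq_of_le_of_card_ge
  · rintro _ ⟨y, hy, rfl⟩
    exact h y hy
  · rw [Subgroup.card_map_of_injective (MulAut.conj x).injective]

/-- closure of `D'` under conjugation from `D` -/
theorem mem_conj_of_mem {D S : Subgroup G} (hD : IsStronglyClosed D S) (h : G) {x g : G} (hx : x ∈ D)
    (hg : g * x * g⁻¹ ∈ S.map (MulAut.conj h).toMonoidHom) :
    g * x * g⁻¹ ∈ D.map (MulAut.conj h).toMonoidHom := by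
  obtain ⟨s, hs, hsx⟩ := hg
  have hsx' : h * s * h⁻¹ = g * x * g⁻¹ := hsx
  have e : (h⁻¹ * g) * x * (h⁻¹ * g)⁻¹ = s := by
    have : s = h⁻¹ * (h * s * h⁻¹) * h := by group
    rw [this, hsx']; group
  have h1 := hD.2 x hx (h⁻¹ * g) (by rw [e]; exact hs)
  rw [e] at h1
  exact ⟨s, h1, hsx⟩

/-- the data transported to a Sylow subgroup containing a given `p`-subgroup -/
theorem exists_conj [Finite G] {p : ℕ} [Fact p.Prime] (S : Sylow p G) {D : Subgroup G}
    (hD : IsStronglyClosed D (S : Subgroup G)) {m : ℕ}
    (hm : ∀ V ≤ D, m < Nat.card V → HasNormalPComplement p (normalizer (V : Set G)))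
    {T : Subgroup G} (hT : IsPGroup p T) :
    ∃ (S' : Sylow p G) (D' : Subgroup G), T ≤ (S' : Subgroup G) ∧ IsStronglyClosed D' (S' : Subgroup G) ∧
      (∀ V ≤ D', m < Nat.card V → HasNormalPComplement p (normalizer (V : Set G))) ∧
      (∀ x ∈ D, ∀ g : G, g * x * g⁻¹ ∈ (S' : Subgroup G) → g * x * g⁻¹ ∈ D') ∧
      Nat.card D' = Nat.card D := by
  obtain ⟨S', hS'⟩ := hT.exists_le_sylow
  obtain ⟨h, hh⟩ := MulAction.exists_smul_eq G S S'
  have hhS : (S' : Subgroup G) = (S : Subgroup G).map (MulAut.conj h).toMonoidHom := by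
    rw [← hh]; rfl
  refine ⟨S', D.map (MulAut.conj h).toMonoidHom, hS', ?_, ?_, ?_, ?_⟩
  · rw [hhS]; exact isStronglyClosed_conj hD h
  · intro V hV hVm
    set V₀ := V.map (MulAut.conj h⁻¹).toMonoidHom with hV₀
    have hVV : V = V₀.map (MulAut.conj h).toMonoidHom := by
      rw [hV₀, Subgroup.map_map]
      symm
      convert Subgroup.map_id V
      ext y
      simp [mul_assoc]
    have hV₀D : V₀ ≤ D := by
      rintro _ ⟨v, hv, rfl⟩
      obtain ⟨d, hd, hdv⟩ := hV hv
      rw [← hdv]
      simpa [mul_assoc] using hd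
    rw [hVV]
    apply npc_normalizer_conj
    apply hm _ hV₀D
    rw [hV₀, Subgroup.card_map_of_injective (MulAut.conj h⁻¹).injective]
    exact hVm
  · intro x hx g hg
    rw [hhS] at hg
    exact mem_conj_of_mem hD h hx hg
  · exact Subgroup.card_map_of_injective (MulAut.conj h).injective

/-- If `T` is a Sylow `p`-subgroup of `N` inside `S`, then `S ∩ N = T`. -/
theorem sylow_eq_subgroupOf {p : ℕ} {N : Subgroup G} (T : Sylow p N) (S : Sylow p G)
    (h : (T : Subgroup N).map N.subtype ≤ (S : Subgroup G)) :
    (S : Subgroup G).subgroupOf N = (T : Subgroup N) := by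
  apply T.3
  · exact S.isPGroup'.comap_subtype
  · intro x hx
    exact mem_subgroupOf.mpr (h ⟨x, hx, rfl⟩)

end Aux

theorem main {p : ℕ} [hp : Fact p.Prime] :
    ∀ (G : Type u) [Group G] [Finite G] (S : Sylow p G) (D : Subgroup G),
      IsStronglyClosed D (S : Subgroup G) →
      (∀ U : Subgroup G, U ≤ D → D ⊓ centralizer (U : Set G) ≤ U →
        HasNormalPComplement p (normalizer (U : Set G))) → HasNormalPComplement p G := by
  intro G
  induction hn : Nat.card G using Nat.strong_induction_on generalizing G with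
  | _ n ih =>
  intro _ _ S D hD hyp
  by_contra hG
  -- the maximal bad subgroup
  have hex : ∃ U : Subgroup G, U ≤ D ∧ ¬ HasNormalPComplement p (normalizer (U : Set G)) :=
    ⟨⊥, bot_le, fun h => hG (npc_of_normalizer_top inferInstance h)⟩
  have hfin : ({U : Subgroup G | U ≤ D ∧
      ¬ HasNormalPComplement p (normalizer (U : Set G))}).Finite := Set.toFinite _
  obtain ⟨U, ⟨hUD, hUN⟩, hmax⟩ := hfin.exists_maximalFor (fun U : Subgroup G => Nat.card U) _ hex
  have hm : ∀ V ≤ D, Nat.card U < Nat.card V → HasNormalPComplement p (normalizer (V : Set G)) := by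
    intro V hV hlt
    by_contra hcon
    exact absurd (hmax (j := V) ⟨hV, hcon⟩ hlt.le) (not_le.mpr hlt)
  have hUc : ¬ (D ⊓ centralizer (U : Set G) ≤ U) := fun h => hUN (hyp U hUD h)
  have hUp : IsPGroup p U := S.isPGroup'.to_le (hUD.trans hD.1)
  by_cases hNtop : normalizer (U : Set G) = ⊤
  swap
  · -- Case A
    apply hUN
    set N := normalizer (U : Set G) with hN
    have hNlt : Nat.card N < n := by
      rw [← hn]
      refine lt_of_le_of_ne (Subgroup.card_le_card_group N) (fun heq => hNtop ?_)
      exact Subgroup.eq_top_of_card_eq N heq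
    obtain ⟨T⟩ : Nonempty (Sylow p N) := inferInstance
    have hTp : IsPGroup p ((T : Subgroup N).map N.subtype) := T.isPGroup'.map _
    obtain ⟨S', D', hTS', hD', hm', hcl, hcard⟩ := exists_conj S hD hm hTp
    have hUT : U ≤ (T : Subgroup N).map N.subtype := by
      have h2 : U.subgroupOf N ≤ (T : Subgroup N) := by
        have hn' : (U.subgroupOf N).Normal := Subgroup.normal_in_normalizer
        have hp' : IsPGroup p (U.subgroupOf N) := hUp.comap_subtype
        exact hp'.le_sylow_of_normal T
      intro x hx
      exact ⟨⟨x, le_normalizer hx⟩, h2 hx, rfl⟩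
    have hUD' : U ≤ D' := by
      intro x hx
      have := hcl x (hUD hx) 1 (by simpa using hTS' (hUT hx))
      simpa using this
    have hTN := sylow_eq_subgroupOf T S' hTS'
    -- `D' ∩ C(U)` is not inside `U`
    have hUc' : ¬ (D' ⊓ centralizer (U : Set G) ≤ U) := by
      intro hcon
      apply hUc
      have hCp : IsPGroup p ((D ⊓ centralizer (U : Set G)).subgroupOf N) :=
        (S.isPGroup'.to_le (inf_le_left.trans hD.1)).comap_subtype
      obtain ⟨T₁, hT₁⟩ := hCp.exists_le_sylow
      obtain ⟨k, hk⟩ := MulAction.exists_smul_eq N T₁ T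
      intro x hx
      have hxN : x ∈ N := centralizer_le_normalizer _ hx.2
      have h1 : (⟨x, hxN⟩ : N) ∈ T₁ := hT₁ (mem_subgroupOf.mpr hx)
      have h2 : k * ⟨x, hxN⟩ * k⁻¹ ∈ T := by
        rw [← hk]
        exact Subgroup.smul_mem_pointwise_smul _ (MulAut.conj k) _ h1
      have h3 : (k : G) * x * (k : G)⁻¹ ∈ (S' : Subgroup G) := hTS' ⟨_, h2, rfl⟩
      have h4 := hcl x hx.1 k h3
      have h5 : (k : G) * x * (k : G)⁻¹ ∈ centralizer (U : Set G) := by
        rw [mem_centralizer_iff]
        intro u hu
        have h6 : (k : G)⁻¹ * u * k ∈ U := by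
          have := (mem_normalizer_iff.mp (inv_mem k.2) u).mp hu
          simpa using this
        have h7 := mem_centralizer_iff.mp hx.2 _ h6
        calc u * ((k : G) * x * (k : G)⁻¹) = k * (((k : G)⁻¹ * u * k) * x) * (k : G)⁻¹ := by group
          _ = k * (x * ((k : G)⁻¹ * u * k)) * (k : G)⁻¹ := by rw [h7]
          _ = (k : G) * x * (k : G)⁻¹ * u := by group
      have h8 := hcon ⟨h4, h5⟩
      exact (mem_normalizer_iff.mp k.2 x).mpr h8
    refine ih (Nat.card N) hNlt N rfl T (D'.subgroupOf N) ?_ ?_
    · rw [← hTN]; exact isStronglyClosed_subgroupOf hD' N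
    · intro W hW hWc
      set W₁ := W.map N.subtype with hW₁
      have hW₁D : W₁ ≤ D' := by
        rintro _ ⟨w, hw, rfl⟩
        exact mem_subgroupOf.mp (hW hw)
      by_cases hlt : Nat.card U < Nat.card (W₁ ⊔ U : Subgroup G)
      · have h1 := hm' (W₁ ⊔ U) (sup_le hW₁D hUD') hlt
        have hUN' : (U.subgroupOf N).Normal := Subgroup.normal_in_normalizer
        have h2 : (W ⊔ U.subgroupOf N).map N.subtype = W₁ ⊔ U := by
          rw [Subgroup.map_sup, Subgroup.subgroupOf_map_subtype, inf_eq_left.mpr (le_normalizer)]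
        rw [← h2] at h1
        have h3 := npc_normalizer_subgroup h1
        refine Cfsg.Agent.Transfer.HasNPC.of_le h3 ?_
        intro x hx
        apply mem_normalizer_of_map_conj_eq
        rw [Subgroup.map_sup, map_conj_eq_of_mem_normalizer hx,
          map_conj_eq_of_mem_normalizer (P := U.subgroupOf N) (g := x) (by
            rw [normalizer_eq_top_iff.mpr hUN']; trivial)]
      · exfalso
        have hle : W₁ ≤ U := by
          have h1 : U = W₁ ⊔ U := Subgroup.eq_of_le_of_card_ge le_sup_right (not_lt.mp hlt)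
          rw [h1]; exact le_sup_left
        apply hUc'
        intro x hx
        have hxN : x ∈ N := centralizer_le_normalizer _ hx.2
        have h1 : (⟨x, hxN⟩ : N) ∈ W := by
          apply hWc
          refine ⟨mem_subgroupOf.mpr hx.1, mem_centralizer_iff.mpr ?_⟩
          intro w hw
          have := mem_centralizer_iff.mp hx.2 w (hle ⟨w, hw, rfl⟩)
          exact Subtype.ext this
        exact hle ⟨_, h1, rfl⟩
  · -- Case B
    have hUnor : U.Normal := normalizer_eq_top_iff.mp hNtop
    -- Claim 1
    have claim1 : ∀ g : G, (orderOf g).Coprime p → g ∈ centralizer (U : Set G) := by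
      intro g hg
      set C := centralizer (U : Set G) with hC
      set W := U ⊔ (D ⊓ C) with hW
      have hWD : W ≤ D := sup_le hUD inf_le_left
      have hlt : Nat.card U < Nat.card W := by
        apply lt_of_le_of_ne (Subgroup.card_le_of_le le_sup_left)
        intro heq
        apply hUc
        have : U = W := Subgroup.eq_of_le_of_card_ge le_sup_left heq.ge
        exact (le_sup_right : D ⊓ C ≤ W).trans this.ge
      have hWN := hm W hWD hlt
      have hfr := Cfsg.Agent.H51.frattini_inf S C
      have hNle : normalizer (((S : Subgroup G) ⊓ C : Subgroup G) : Set G) ≤ normalizer (W : Set G) := by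
        intro x hx
        have h1 : x ∈ normalizer ((D ⊓ C : Subgroup G) : Set G) := by
          apply mem_normalizer_of_le
          intro d hd
          have h2 : x * d * x⁻¹ ∈ ((S : Subgroup G) ⊓ C : Subgroup G) :=
            (mem_normalizer_iff.mp hx d).mp ⟨hD.1 hd.1, hd.2⟩
          exact ⟨hD.2 d hd.1 x h2.1, h2.2⟩
        apply mem_normalizer_of_map_conj_eq
        rw [hW, Subgroup.map_sup, map_conj_eq_of_mem_normalizer h1,
          map_conj_eq_of_mem_normalizer (P := U) (g := x) (by rw [hNtop]; trivial)]
      have hsup : normalizer (W : Set G) ⊔ C = ⊤ := by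
        rw [← top_le_iff, ← hfr]
        exact sup_le_sup_right hNle _
      have hg' : g ∈ normalizer (W : Set G) ⊔ C := by rw [hsup]; trivial
      rw [mem_sup_of_normal_right] at hg'
      obtain ⟨y, hy, c, hc, hyc⟩ := hg'
      let f := (QuotientGroup.mk' C).comp (normalizer (W : Set G)).subtype
      have hfy : f ⟨y, hy⟩ = QuotientGroup.mk' C g := by
        show QuotientGroup.mk' C y = _
        rw [← hyc, map_mul, (QuotientGroup.eq_one_iff c).mpr hc |> (fun h => (h : QuotientGroup.mk' C c = 1)),
          mul_one]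
      obtain ⟨k, hk1, hk2⟩ := Cfsg.Agent.Transfer.exists_pow_lift p f ⟨y, hy⟩ (orderOf_pos _).ne' (by
        rw [hfy]; exact Nat.Coprime.coprime_dvd_left (orderOf_map_dvd _ _) hg)
      set z : normalizer (W : Set G) := ⟨y, hy⟩ ^ k with hz
      have hWp : IsPGroup p (W.subgroupOf (normalizer (W : Set G))) :=
        (S.isPGroup'.to_le (hWD.trans hD.1)).comap_subtype
      have hWn : (W.subgroupOf (normalizer (W : Set G))).Normal := Subgroup.normal_in_normalizer
      have hzc := Cfsg.Agent.Transfer.HasNPC.mem_centralizer hWN hWp (g := z)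
        (by rw [normalizer_eq_top_iff.mpr hWn]; trivial) hk2
      have hzC : (z : G) ∈ C := by
        rw [hC, mem_centralizer_iff]
        intro u hu
        have huW : u ∈ W := le_sup_left (a := U) hu
        have := mem_centralizer_iff.mp hzc ⟨u, le_normalizer huW⟩ (mem_subgroupOf.mpr huW)
        exact congrArg Subtype.val this
      have h5 : QuotientGroup.mk' C g = 1 := by
        rw [← hfy, ← hk1]
        exact (QuotientGroup.eq_one_iff _).mpr hzC
      exact (QuotientGroup.eq_one_iff g).mp h5
    -- Claim 2
    have claim2 : ∀ Q : Subgroup G, IsPGroup p Q → U ≤ Q → ∀ g ∈ normalizer (Q : Set G),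
        (orderOf g).Coprime p → g ∈ centralizer (Q : Set G) := by
      intro Q hQp hUQ g hgN hgp
      set N := normalizer (Q : Set G) with hN
      obtain ⟨T⟩ : Nonempty (Sylow p N) := inferInstance
      have hTp : IsPGroup p ((T : Subgroup N).map N.subtype) := T.isPGroup'.map _
      obtain ⟨S', D', hTS', hD', hm', hcl, hcard⟩ := exists_conj S hD hm hTp
      have hQT : Q ≤ (T : Subgroup N).map N.subtype := by
        have h2 : Q.subgroupOf N ≤ (T : Subgroup N) := by
          have hn' : (Q.subgroupOf N).Normal := Subgroup.normal_in_normalizer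
          have hp' : IsPGroup p (Q.subgroupOf N) := hQp.comap_subtype
          exact hp'.le_sylow_of_normal T
        intro x hx
        exact ⟨⟨x, le_normalizer hx⟩, h2 hx, rfl⟩
      have hQS' : Q ≤ (S' : Subgroup G) := hQT.trans hTS'
      have hUD' : U ≤ D' := by
        intro x hx
        have := hcl x (hUD hx) 1 (by simpa using hQS' (hUQ hx))
        simpa using this
      have hTN := sylow_eq_subgroupOf T S' hTS'
      -- `N ≤ N(Q ∩ D')`
      set R := Q ⊓ D' with hR
      have hNR : N ≤ normalizer (R : Set G) := by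
        intro x hx
        apply mem_normalizer_of_le
        intro y hy
        have h1 : x * y * x⁻¹ ∈ Q := (mem_normalizer_iff.mp hx y).mp hy.1
        exact ⟨h1, hD'.2 y hy.2 x (hQS' h1)⟩
      -- general argument: `g` and `Q` inside an NPC subgroup
      have key : ∀ (V : Subgroup G), HasNormalPComplement p (normalizer (V : Set G)) →
          Q ≤ normalizer (V : Set G) → ∀ x ∈ N, x ∈ normalizer (V : Set G) → (orderOf x).Coprime p →
          x ∈ centralizer (Q : Set G) := by
        intro V hV hQV x hxN hxV hxp
        have hQ'p : IsPGroup p (Q.subgroupOf (normalizer (V : Set G))) := hQp.comap_subtype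
        have h1 := Cfsg.Agent.Transfer.HasNPC.mem_centralizer hV hQ'p (g := ⟨x, hxV⟩) (by
          apply mem_normalizer_of_le
          intro y hy
          exact mem_subgroupOf.mpr ((mem_normalizer_iff.mp hxN (y : G)).mp (mem_subgroupOf.mp hy))) (by
          rwa [Subgroup.orderOf_mk])
        rw [mem_centralizer_iff]
        intro q hq
        exact congrArg Subtype.val (mem_centralizer_iff.mp h1 ⟨q, hQV hq⟩ (mem_subgroupOf.mpr hq))
      by_cases hUR : Nat.card U < Nat.card R
      · exact key R (hm' R inf_le_right hUR) (le_normalizer.trans hNR) g hgN (hNR hgN) hgp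
      · have hRU : R = U := (Subgroup.eq_of_le_of_card_ge (le_inf hUQ hUD') (not_lt.mp hUR)).symm
        -- the subgroup of elements of `N` centralizing `Q / U`
        let Kn : Subgroup N :=
          { carrier := {m | ∀ q ∈ Q, (m : G) * q * (m : G)⁻¹ * q⁻¹ ∈ U}
            one_mem' := by intro q hq; simpa using U.one_mem
            mul_mem' := by
              intro a b ha hb q hq
              have hbq : (b : G) * q * (b : G)⁻¹ ∈ Q := (mem_normalizer_iff.mp b.2 q).mp hq
              have h1 := ha _ hbq
              have h2 := hb q hq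
              have h3 := mul_mem h1 h2
              have e : ((a * b : N) : G) * q * ((a * b : N) : G)⁻¹ * q⁻¹ =
                ((a : G) * ((b : G) * q * (b : G)⁻¹) * (a : G)⁻¹ * ((b : G) * q * (b : G)⁻¹)⁻¹) *
                  ((b : G) * q * (b : G)⁻¹ * q⁻¹) := by
                rw [Subgroup.coe_mul]; group
              rw [e]; exact h3
            inv_mem' := by
              intro a ha q hq
              have hq' : (a : G)⁻¹ * q * a ∈ Q := by
                have := (mem_normalizer_iff.mp (inv_mem a.2) q).mp hq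
                simpa using this
              have h1 := inv_mem (ha _ hq')
              have e : ((a⁻¹ : N) : G) * q * ((a⁻¹ : N) : G)⁻¹ * q⁻¹ =
                ((a : G) * ((a : G)⁻¹ * q * a) * (a : G)⁻¹ * ((a : G)⁻¹ * q * a)⁻¹)⁻¹ := by
                rw [Subgroup.coe_inv]; group
              rw [e]; exact h1 }
        have hKn : Kn.Normal := by
          refine ⟨fun m hm n => ?_⟩
          intro q hq
          have hq' : (n : G)⁻¹ * q * n ∈ Q := by
            have := (mem_normalizer_iff.mp (inv_mem n.2) q).mp hq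
            simpa using this
          have h1 := hUnor.conj_mem _ (hm _ hq') (n : G)
          have e : ((n * m * n⁻¹ : N) : G) * q * ((n * m * n⁻¹ : N) : G)⁻¹ * q⁻¹ =
            (n : G) * ((m : G) * ((n : G)⁻¹ * q * n) * (m : G)⁻¹ * ((n : G)⁻¹ * q * n)⁻¹) * (n : G)⁻¹ := by
            simp only [Subgroup.coe_mul, Subgroup.coe_inv]; group
          rw [e]; exact h1
        have hSD' : ∀ s ∈ (S' : Subgroup G), ∀ d ∈ D', s * d * s⁻¹ ∈ D' := by
          intro s hs d hd
          exact hD'.2 d hd s (mul_mem (mul_mem hs (hD'.1 hd)) (inv_mem hs))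
        -- `D' ∩ N ≤ Kn`
        have hDK : ∀ x : N, (x : G) ∈ D' → x ∈ Kn := by
          intro x hx q hq
          rw [← hRU]
          refine ⟨Q.mul_mem ((mem_normalizer_iff.mp x.2 q).mp hq) (Q.inv_mem hq), ?_⟩
          have e : (x : G) * q * (x : G)⁻¹ * q⁻¹ = x * (q * (x : G)⁻¹ * q⁻¹) := by group
          rw [e]
          exact D'.mul_mem hx (hSD' q (hQS' hq) _ (D'.inv_mem hx))
        set W₁ := D' ⊓ N with hW₁
        have hfr := Cfsg.Agent.H51.frattini_inf T Kn
        have hNW : ∀ x : N, x ∈ normalizer (((T : Subgroup N) ⊓ Kn : Subgroup N) : Set N) →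
            (x : G) ∈ normalizer (W₁ : Set G) := by
          intro x hx
          apply mem_normalizer_of_le
          intro d hd
          have h1 : (⟨d, hd.2⟩ : N) ∈ (T : Subgroup N) ⊓ Kn := by
            refine ⟨?_, hDK _ hd.1⟩
            show (⟨d, hd.2⟩ : N) ∈ (T : Subgroup N)
            rw [← hTN]
            exact mem_subgroupOf.mpr (hD'.1 hd.1)
          have h2 := (mem_normalizer_iff.mp hx _).mp h1
          have h3 : (x : G) * d * (x : G)⁻¹ ∈ (S' : Subgroup G) := hTS' ⟨_, h2.1, rfl⟩
          exact ⟨hD'.2 d hd.1 x h3, N.mul_mem (N.mul_mem x.2 hd.2) (N.inv_mem x.2)⟩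
        -- `W₁` is bigger than `U`
        have hlt : Nat.card U < Nat.card W₁ := by
          have hUW : U ≤ W₁ := le_inf hUD' (hUQ.trans le_normalizer)
          have hUne : U ≠ D' := by
            intro h0
            apply hUc
            have h1 : U = D := Subgroup.eq_of_le_of_card_ge hUD (by rw [h0, hcard])
            rw [← h1]; exact inf_le_left
          apply lt_of_le_of_ne (Subgroup.card_le_of_le hUW)
          intro heq
          have hUW' : U = W₁ := Subgroup.eq_of_le_of_card_ge hUW heq.ge
          -- fixed points in the quotient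
          have hD'p : IsPGroup p D' := S'.isPGroup'.to_le hD'.1
          have h2 : (D'.map (QuotientGroup.mk' U)) ⊓
              centralizer ((Q.map (QuotientGroup.mk' U) : Subgroup (G ⧸ U)) : Set (G ⧸ U)) ≠ ⊥ := by
            apply Cfsg.Agent.Supersolvable.inf_centralizer_ne_bot (p := p) _ _ (hQp.map _) (hD'p.map _)
            · rintro _ ⟨q, hq, rfl⟩
              apply mem_normalizer_of_le
              rintro _ ⟨d, hd, rfl⟩
              exact ⟨q * d * q⁻¹, hSD' q (hQS' hq) d hd, by simp⟩
            · intro h0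
              rw [Subgroup.map_eq_bot_iff, QuotientGroup.ker_mk'] at h0
              exact hUne (le_antisymm hUD' h0)
          obtain ⟨y, hy, hy1⟩ : ∃ y, y ∈ (D'.map (QuotientGroup.mk' U)) ⊓
              centralizer ((Q.map (QuotientGroup.mk' U) : Subgroup (G ⧸ U)) : Set (G ⧸ U)) ∧ y ≠ 1 := by
            by_contra hcon
            push Not at hcon
            exact h2 ((Subgroup.eq_bot_iff_forall _).mpr hcon)
          obtain ⟨⟨d, hd, rfl⟩, hyc⟩ := hy
          have hdN : d ∈ N := by
            apply mem_normalizer_of_le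
            intro q hq
            have h3 := mem_centralizer_iff.mp hyc _ ⟨q, hq, rfl⟩
            have h4 : d * q * d⁻¹ * q⁻¹ ∈ U := by
              rw [← QuotientGroup.eq_one_iff]
              show QuotientGroup.mk' U _ = 1
              rw [map_mul, map_mul, map_mul, map_inv, map_inv, ← h3]
              group
            have h5 := Q.mul_mem (hUQ h4) hq
            simpa using h5
          have hdW : d ∈ U := by
            rw [hUW']; exact ⟨hd, hdN⟩
          exact hy1 ((QuotientGroup.eq_one_iff d).mpr hdW)
        have hW₁N := hm' W₁ inf_le_left hlt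
        have hQW : Q ≤ normalizer (W₁ : Set G) := by
          intro q hq
          apply mem_normalizer_of_le
          intro d hd
          exact ⟨hSD' q (hQS' hq) d hd.1,
            N.mul_mem (N.mul_mem (le_normalizer hq) hd.2) (N.inv_mem (le_normalizer hq))⟩
        -- lift `g`
        have hgK : (⟨g, hgN⟩ : N) ∈ Kn := by
          have hg' : (⟨g, hgN⟩ : N) ∈ normalizer (((T : Subgroup N) ⊓ Kn : Subgroup N) : Set N) ⊔ Kn := by
            rw [hfr]; trivial
          rw [mem_sup_of_normal_right] at hg'
          obtain ⟨y, hy, c, hc, hyc⟩ := hg'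
          let f := (QuotientGroup.mk' Kn).comp
            (normalizer (((T : Subgroup N) ⊓ Kn : Subgroup N) : Set N)).subtype
          have hfy : f ⟨y, hy⟩ = QuotientGroup.mk' Kn ⟨g, hgN⟩ := by
            show QuotientGroup.mk' Kn y = _
            rw [← hyc, map_mul,
              (QuotientGroup.eq_one_iff c).mpr hc |> (fun h => (h : QuotientGroup.mk' Kn c = 1)), mul_one]
          obtain ⟨k, hk1, hk2⟩ := Cfsg.Agent.Transfer.exists_pow_lift p f ⟨y, hy⟩ (orderOf_pos _).ne' (by
            rw [hfy]
            refine Nat.Coprime.coprime_dvd_left (orderOf_map_dvd _ _) ?_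
            rwa [Subgroup.orderOf_mk])
          set z := (⟨y, hy⟩ : normalizer (((T : Subgroup N) ⊓ Kn : Subgroup N) : Set N)) ^ k with hz
          have hzo : (orderOf ((z : N) : G)).Coprime p := by
            rw [Subgroup.orderOf_coe, Subgroup.orderOf_coe]; exact hk2
          have hzc := key W₁ hW₁N hQW _ (z : N).2 (hNW _ z.2) hzo
          have hzK : (z : N) ∈ Kn := by
            intro q hq
            have := mem_centralizer_iff.mp hzc q hq
            rw [← this]
            simp
          have h5 : QuotientGroup.mk' Kn ⟨g, hgN⟩ = 1 := by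
            rw [← hfy, ← hk1]
            exact (QuotientGroup.eq_one_iff _).mpr hzK
          exact (QuotientGroup.eq_one_iff _).mp h5
        -- conclusion
        rw [mem_centralizer_iff]
        intro q hq
        have h1 : g * q * g⁻¹ * q⁻¹ ∈ U := hgK q hq
        have h2 : ⁅q, g⁆ = (g * q * g⁻¹ * q⁻¹)⁻¹ := by rw [commutatorElement_def]; group
        have h3 : ⁅q, g⁆ ∈ U := by rw [h2]; exact inv_mem h1
        have h4 : ⁅q, g⁆ = 1 := by
          apply Cfsg.Agent.H51.commutator_eq_one_of_commute hgp
          · obtain ⟨j, hj⟩ := (IsPGroup.iff_orderOf.mp hUp) ⟨_, h3⟩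
            exact ⟨j, by rw [← hj]; exact (Subgroup.orderOf_mk _ _).symm⟩
          · exact mem_centralizer_iff.mp (claim1 g hgp) _ h3
        rwa [commutatorElement_eq_one_iff_mul_comm] at h4
    apply hG
    apply Cfsg.Agent.Transfer.hasNPC_of_frobenius
    intro Q hQ g hg hgp
    have hQ' : IsPGroup p (Q ⊔ U : Subgroup G) := by
      exact hQ.to_sup_of_normal_right hUp
    have hg' : g ∈ normalizer ((Q ⊔ U : Subgroup G) : Set G) := by
      apply mem_normalizer_of_map_conj_eq
      rw [Subgroup.map_sup, map_conj_eq_of_mem_normalizer hg,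
        map_conj_eq_of_mem_normalizer (P := U) (g := g) (by rw [hNtop]; trivial)]
    have h1 := claim2 _ hQ' le_sup_right g hg' hgp
    exact Subgroup.centralizer_le (show (Q : Set G) ⊆ ((Q ⊔ U : Subgroup G) : Set G) from
      fun x hx => (le_sup_left : Q ≤ Q ⊔ U) hx) h1

end Cfsg.Agent.H51.SCFrob
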